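import Mathlib
import Cfsg.Agent.Lib.Orth.Omega
import Cfsg.Agent.Lib.Classical.OrthCount

/-!
The parity of the dimension of the fixed space of an isometry in characteristic two, and the size
of the unipotent block of an element acting with a non-zero norm map.
-/

set_option autoImplicit false

namespace CfsgLib.Recognition.SpEight

open QuadraticMap Module CfsgLib.Orth

variable {F V : Type*} [Field F] [AddCommGroup V] [Module F V]

section Fix

variable {Q : QuadraticForm F V}

/-- The fixed space. -/
def fixSpace (g : orthGroup Q) : Submodule F V := LinearMap.ker ((g.1 : V →ₗ[F] V) - LinearMap.id)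

theorem mem_fixSpace {g : orthGroup Q} {v : V} : v ∈ fixSpace g ↔ g.1 v = v := by
  simp [fixSpace, sub_eq_zero]

/-- The parity of the dimension of the fixed space. -/
noncomputable def par (g : orthGroup Q) : ZMod 2 := (finrank F (fixSpace g) : ZMod 2)

theorem fixSpace_one : fixSpace (1 : orthGroup Q) = ⊤ := by
  ext v; simp only [mem_fixSpace, Submodule.mem_top, iff_true]; rfl

variable [FiniteDimensional F V]

theorem finrank_fixSpace_congr {W : Type*} [AddCommGroup W] [Module F W] {R : QuadraticForm F W} (e : V ≃ₗ[F] W)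
    (he : ∀ v, R (e v) = Q v) (g : orthGroup Q) :
    finrank F (fixSpace (CfsgLib.Classical.orthGroupCongr e he g)) = finrank F (fixSpace g) := by
  have h : fixSpace (CfsgLib.Classical.orthGroupCongr e he g) = (fixSpace g).map (e : V →ₗ[F] W) := by
    ext w
    simp only [mem_fixSpace, Submodule.mem_map_equiv]
    show e (g.1 (e.symm w)) = w ↔ _
    constructor
    · intro h
      exact e.injective (by rw [h, e.apply_symm_apply])
    · intro h
      rw [h, e.apply_symm_apply]
  rw [h, LinearEquiv.finrank_map_eq]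

variable (hQ : (QuadraticMap.polarBilin Q).Nondegenerate)
include hQ

theorem range_eq_orthogonal (g : orthGroup Q) :
    LinearMap.range ((g.1 : V →ₗ[F] V) - LinearMap.id) =
      LinearMap.BilinForm.orthogonal (QuadraticMap.polarBilin Q) (fixSpace g) := by
  have hrefl : (QuadraticMap.polarBilin Q).IsRefl := fun x y h => by
    rw [QuadraticMap.polarBilin_apply_apply, polar_comm] at h; exact h
  refine Submodule.eq_of_le_of_finrank_le ?_ ?_
  · rintro _ ⟨y, rfl⟩ u hu
    show polar Q u (g.1 y - y) = 0
    nth_rewrite 1 [← mem_fixSpace.1 hu]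
    rw [sub_eq_add_neg, polar_add_right, polar_neg_right, polar_isom, mem_fixSpace.1 hu, add_neg_cancel]
  · have h1 := LinearMap.finrank_range_add_finrank_ker ((g.1 : V →ₗ[F] V) - LinearMap.id)
    have h2 := LinearMap.BilinForm.finrank_orthogonal hQ (fixSpace g)
    have h3 : finrank F (fixSpace g) =
        finrank F (LinearMap.ker ((g.1 : V →ₗ[F] V) - LinearMap.id)) := rfl
    omega

/-- Multiplying by a reflection changes the parity. -/
theorem par_refl_mul [CharP F 2] {a : V} (ha : Q a ≠ 0) (g : orthGroup Q) :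
    par (refl Q a * g) = par g + 1 := by
  have ha0 : a ≠ 0 := fun h => ha (by rw [h, QuadraticMap.map_zero])
  have happ : ∀ v, (refl Q a * g).1 v = g.1 v - ((Q a)⁻¹ * polar Q a (g.1 v)) • a := fun v => refl_apply Q a _
  by_cases hr : a ∈ LinearMap.range ((g.1 : V →ₗ[F] V) - LinearMap.id)
  · obtain ⟨y, hy⟩ := hr
    have hy' : g.1 y - y = a := hy
    have hfix : ∀ u, g.1 u = u → polar Q a u = 0 := by
      intro u hu
      rw [← hy', sub_eq_add_neg, polar_add_left, polar_neg_left]
      nth_rewrite 1 [← hu]
      rw [polar_isom, add_neg_cancel]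
    have hyfix : (refl Q a * g).1 y = y := by
      show (refl Q a).1 (g.1 y) = y
      rw [← hy']
      exact refl_sub_apply Q (apply_quad g y) (by rw [hy']; exact ha)
    have heq : fixSpace (refl Q a * g) = fixSpace g ⊔ (F ∙ y) := by
      apply le_antisymm
      · intro v hv
        rw [mem_fixSpace, happ] at hv
        set t := (Q a)⁻¹ * polar Q a (g.1 v)
        refine Submodule.mem_sup.2 ⟨v - t • y, ?_, t • y, Submodule.smul_mem _ t (Submodule.mem_span_singleton_self y),
          sub_add_cancel v _⟩
        rw [mem_fixSpace, map_sub, map_smul, eq_add_of_sub_eq' hy', smul_add, sub_eq_sub_iff_add_eq_add]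
        linear_combination (norm := module) hv
      · rw [sup_le_iff]
        refine ⟨fun u hu => ?_, (Submodule.span_singleton_le_iff_mem _ _).2 (mem_fixSpace.2 hyfix)⟩
        rw [mem_fixSpace] at hu ⊢
        rw [happ, hu, hfix u hu, mul_zero, zero_smul, sub_zero]
    have hy0 : y ∉ fixSpace g := fun h => ha0 (by rw [← hy', mem_fixSpace.1 h, sub_self])
    have hdim : finrank F (fixSpace g ⊔ (F ∙ y) : Submodule F V) = finrank F (fixSpace g) + 1 := by
      have h := Submodule.finrank_sup_add_finrank_inf_eq (fixSpace g) (F ∙ y)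
      have hdis : fixSpace g ⊓ (F ∙ y) = ⊥ := by
        rw [← disjoint_iff]
        exact (Submodule.disjoint_span_singleton' (fun h => hy0 (by rw [h]; exact zero_mem _))).2 hy0
      rw [hdis, finrank_bot, add_zero, finrank_span_singleton (fun h => hy0 (by rw [h]; exact zero_mem _))] at h
      exact h
    rw [par, par, heq, hdim, Nat.cast_add, Nat.cast_one]
  · -- the fixed space drops
    rw [range_eq_orthogonal hQ] at hr
    obtain ⟨u, hu, hua⟩ : ∃ u ∈ fixSpace g, polar Q a u ≠ 0 := by
      by_contra hall
      push Not at hall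
      apply hr
      intro u hu
      show polar Q u a = 0
      rw [polar_comm]
      exact hall u hu
    let φ : fixSpace g →ₗ[F] F := (QuadraticMap.polarBilin Q a).comp (fixSpace g).subtype
    have heq : fixSpace (refl Q a * g) = (LinearMap.ker φ).map (fixSpace g).subtype := by
      ext v
      rw [mem_fixSpace, happ, Submodule.mem_map]
      constructor
      · intro hv
        have hga : g.1 v = v := by
          by_contra hne
          have ht : (Q a)⁻¹ * polar Q a (g.1 v) ≠ 0 := fun h => hne (by rwa [h, zero_smul, sub_zero] at hv)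
          apply hr
          rw [← range_eq_orthogonal hQ]
          refine ⟨((Q a)⁻¹ * polar Q a (g.1 v))⁻¹ • v, ?_⟩
          show g.1 (((Q a)⁻¹ * polar Q a (g.1 v))⁻¹ • v) - ((Q a)⁻¹ * polar Q a (g.1 v))⁻¹ • v = a
          rw [map_smul, ← smul_sub, inv_smul_eq_iff₀ ht]
          rw [sub_eq_iff_eq_add] at hv
          rw [sub_eq_iff_eq_add', ← hv]
        refine ⟨⟨v, mem_fixSpace.2 hga⟩, ?_, rfl⟩
        rw [hga, sub_eq_self, smul_eq_zero, or_iff_left ha0, mul_eq_zero, or_iff_right (inv_ne_zero ha)] at hv
        exact LinearMap.mem_ker.2 hv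
      · rintro ⟨⟨w, hw⟩, hker, rfl⟩
        rw [Submodule.subtype_apply, mem_fixSpace.1 hw, show polar Q a w = 0 from hker, mul_zero, zero_smul,
          sub_zero]
    have hsurj : LinearMap.range φ = ⊤ := by
      rw [LinearMap.range_eq_top]
      intro c
      refine ⟨(c / polar Q a u) • ⟨u, hu⟩, ?_⟩
      rw [map_smul, smul_eq_mul]
      exact div_mul_cancel₀ c hua
    have hdim := LinearMap.finrank_range_add_finrank_ker φ
    rw [hsurj, finrank_top, Module.finrank_self] at hdim
    rw [par, par, heq, (Submodule.equivMapOfInjective _ (fixSpace g).injective_subtype _).finrank_eq.symm, ← hdim,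
      add_comm 1, Nat.cast_add, Nat.cast_one, add_assoc, show (1 : ZMod 2) + 1 = 0 from rfl, add_zero]

/-- The parity is a homomorphism on the reflection group of an even-dimensional space. -/
theorem par_mul [CharP F 2] (hn : Even (finrank F V)) {x : orthGroup Q} (hx : x ∈ reflGroup Q) (g : orthGroup Q) :
    par (x * g) = par x + par g := by
  have h1 : par (1 : orthGroup Q) = 0 := by
    rw [par, fixSpace_one, finrank_top]
    exact (ZMod.natCast_eq_zero_iff_even).2 hn
  revert g
  induction hx using Subgroup.closure_induction with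
  | mem x hx =>
    obtain ⟨a, rfl⟩ := hx
    intro g
    by_cases ha : Q a = 0
    · have e1 : refl Q a = 1 := Subtype.ext (LinearEquiv.ext fun v => by rw [refl_apply, ha]; simp)
      rw [e1, one_mul, h1, zero_add]
    · have h2 := par_refl_mul hQ ha 1
      rw [mul_one, h1, zero_add] at h2
      rw [par_refl_mul hQ ha, h2, add_comm]
  | one => intro g; rw [one_mul, h1, zero_add]
  | mul x y _ _ ihx ihy => intro g; rw [mul_assoc, ihx, ihy, ihx y, add_assoc]
  | inv x _ ih =>
    intro g
    have h3 := ih (x⁻¹ * g)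
    rw [mul_inv_cancel_left] at h3
    have h4 := ih x⁻¹
    rw [mul_inv_cancel, h1] at h4
    linear_combination -h3 + h4

end Fix

section Block

theorem geom_two_pow {R : Type*} [Ring R] (h2 : ∀ x : R, x + x = 0) (g : R) (j : ℕ) :
    (∑ i ∈ Finset.range (2 ^ j), g ^ i) = (g - 1) ^ (2 ^ j - 1) ∧ (g - 1) ^ 2 ^ j = g ^ 2 ^ j - 1 := by
  induction j with
  | zero => simp
  | succ j ih =>
    obtain ⟨h1, h3⟩ := ih
    have hN : 1 ≤ 2 ^ j := Nat.one_le_two_pow
    have hneg : ∀ x : R, -x = x := fun x => neg_eq_of_add_eq_zero_left (h2 x)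
    constructor
    · rw [pow_succ, mul_two, Finset.sum_range_add, show 2 ^ j + 2 ^ j - 1 = 2 ^ j + (2 ^ j - 1) by omega,
        pow_add, h3, ← h1]
      simp only [pow_add, ← Finset.mul_sum]
      rw [sub_mul, one_mul, sub_eq_add_neg, hneg, add_comm]
    · rw [pow_succ, mul_two, pow_add, h3, pow_add, sub_eq_add_neg, hneg]
      rw [add_mul, mul_add, mul_one, one_mul, add_assoc, ← add_assoc (g ^ 2 ^ j), h2, zero_add,
        sub_eq_add_neg, hneg]

theorem geom_mul {R : Type*} [Semiring R] (g : R) (N L : ℕ) :
    (∑ i ∈ Finset.range (N * L), g ^ i) = (∑ i ∈ Finset.range N, g ^ i) * ∑ j ∈ Finset.range L, (g ^ N) ^ j := by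
  induction L with
  | zero => simp
  | succ L ih =>
    rw [Nat.mul_succ, Finset.sum_range_add, ih, Finset.sum_range_succ, mul_add]
    congr 1
    rw [← pow_mul, Finset.sum_mul]
    exact Finset.sum_congr rfl fun i _ => by rw [← pow_add, add_comm]

variable [FiniteDimensional F V]

/-- A long unipotent chain in the kernel of a power. -/
theorem finrank_ker_pow_ge (T : Module.End F V) {x : V} {n : ℕ} (hx : (T ^ n) x ≠ 0) (hT : T ((T ^ n) x) = 0) :
    finrank F (LinearMap.ker T) + n ≤ finrank F (LinearMap.ker (T ^ (n + 1))) := by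
  suffices h : ∀ i ≤ n, finrank F (LinearMap.ker T) + i ≤ finrank F (LinearMap.ker (T ^ (i + 1))) from h n le_rfl
  intro i
  induction i with
  | zero => intro _; rw [zero_add, pow_one, add_zero]
  | succ i ih =>
    intro hi
    have hlt : LinearMap.ker (T ^ (i + 1)) < LinearMap.ker (T ^ (i + 1 + 1)) := by
      refine lt_of_le_of_ne (fun v hv => ?_) fun h => hx ?_
      · rw [LinearMap.mem_ker] at hv ⊢
        rw [pow_succ', Module.End.mul_apply, hv, map_zero]
      · have h1 : (T ^ (n - (i + 1))) x ∈ LinearMap.ker (T ^ (i + 1 + 1)) := by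
          rw [LinearMap.mem_ker, ← Module.End.mul_apply, ← pow_add,
            show i + 1 + 1 + (n - (i + 1)) = n + 1 by omega, pow_succ', Module.End.mul_apply, hT]
        rw [← h, LinearMap.mem_ker, ← Module.End.mul_apply, ← pow_add,
          show i + 1 + (n - (i + 1)) = n by omega] at h1
        exact h1
    have := Submodule.finrank_lt_finrank_of_lt hlt
    have := ih (by omega)
    omega

/-- If the norm map of `g` is non-zero, the eigenvalue one has multiplicity above the `2`-part of the order. -/
theorem rootMultiplicity_gt [CharP F 2] (g : Module.End F V) {j L : ℕ} (hg : g ^ (2 ^ j * L) = 1)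
    (hfix : Even (finrank F (LinearMap.ker (g - 1)))) {v : V}
    (hv : (∑ i ∈ Finset.range (2 ^ j * L), g ^ i) v ≠ 0) :
    2 ^ j + 1 ≤ (LinearMap.charpoly g).rootMultiplicity 1 := by
  have h2 : ∀ x : Module.End F V, x + x = 0 := fun x => by
    ext w; rw [LinearMap.add_apply, ← two_smul F, CharTwo.two_eq_zero, zero_smul]; rfl
  set u := (∑ i ∈ Finset.range (2 ^ j * L), g ^ i) v with hu
  have hTu : (g - 1) u = 0 := by
    rw [hu, ← Module.End.mul_apply, mul_geom_sum, hg, sub_self]; rfl
  have hu' : u = ((g - 1) ^ (2 ^ j - 1) : Module.End F V) ((∑ i ∈ Finset.range L, (g ^ 2 ^ j) ^ i) v) := by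
    rw [hu, geom_mul, (geom_two_pow h2 g j).1]; rfl
  have h1 := finrank_ker_pow_ge (g - 1) (hu' ▸ hv) (hu' ▸ hTu)
  rw [Nat.sub_add_cancel Nat.one_le_two_pow] at h1
  have h3 : 1 ≤ finrank F (LinearMap.ker (g - 1)) := by
    rw [Nat.one_le_iff_ne_zero]
    intro h
    rw [Submodule.finrank_eq_zero] at h
    exact hv ((Submodule.eq_bot_iff _).1 h u (LinearMap.mem_ker.2 hTu))
  have h4 := LinearMap.finrank_genEigenspace_le g (1 : F) (2 ^ j : ℕ)
  rw [Module.End.genEigenspace_nat, one_smul] at h4
  obtain ⟨c, hc⟩ := hfix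
  have := Nat.one_le_two_pow (n := j)
  omega

end Block

end CfsgLib.Recognition.SpEight
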