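import Mathlib
import Cfsg.Agent.Lib.Orth.Sum
import Cfsg.Agent.Lib.Orth.Isometry
import Cfsg.Agent.Lib.Recognition.SpEight.Parity

/-!
Orthogonal sums of forms in characteristic two: the sign of a form read off from its zeros, pairs of
isometries, and the transport of a sum to the standard form of minus type.
-/

set_option autoImplicit false

namespace CfsgLib.Recognition.SpEight

open QuadraticMap Module CfsgLib.Orth CfsgLib.Classical

variable {F : Type*} [Field F]

section Pair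

variable {α β : Type} [Fintype α] [DecidableEq α] [Fintype β] [DecidableEq β]
variable {Q₁ : QuadraticForm F (α → F)} {Q₂ : QuadraticForm F (β → F)}

/-- A pair of isometries on the orthogonal sum. -/
def pairEquiv (g : orthGroup Q₁) (h : orthGroup Q₂) : (α ⊕ β → F) ≃ₗ[F] (α ⊕ β → F) :=
  ((LinearEquiv.sumArrowLequivProdArrow α β F F).trans (g.1.prodCongr h.1)).trans
    (LinearEquiv.sumArrowLequivProdArrow α β F F).symm

theorem pairEquiv_apply (g : orthGroup Q₁) (h : orthGroup Q₂) (v : α ⊕ β → F) :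
    pairEquiv g h v = Sum.elim (g.1 (v ∘ Sum.inl)) (h.1 (v ∘ Sum.inr)) := by
  funext k; rcases k with i | i <;> rfl

theorem exists_pairHom (Q₁ : QuadraticForm F (α → F)) (Q₂ : QuadraticForm F (β → F)) :
    ∃ J : orthGroup Q₁ × orthGroup Q₂ →* orthGroup (sumForm Q₁ Q₂), Function.Injective J ∧
      ∀ p v, (J p).1 v = Sum.elim (p.1.1 (v ∘ Sum.inl)) (p.2.1 (v ∘ Sum.inr)) := by
  refine ⟨MonoidHom.mk' (fun p => ⟨pairEquiv p.1 p.2, fun v => ?_⟩) (fun a b => ?_), fun a b h => ?_,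
    fun p v => pairEquiv_apply p.1 p.2 v⟩
  · show sumForm Q₁ Q₂ (pairEquiv p.1 p.2 v) = _
    rw [pairEquiv_apply, ← sumForm_apply, ← sumForm_apply, Sum.elim_comp_inl, Sum.elim_comp_inr, apply_quad,
      apply_quad]
  · refine Subtype.ext (LinearEquiv.ext fun v => ?_)
    show pairEquiv (a.1 * b.1) (a.2 * b.2) v = pairEquiv a.1 a.2 (pairEquiv b.1 b.2 v)
    rw [pairEquiv_apply, pairEquiv_apply, pairEquiv_apply, Sum.elim_comp_inl, Sum.elim_comp_inr]
    rfl
  · have h' : ∀ v, pairEquiv a.1 a.2 v = pairEquiv b.1 b.2 v :=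
      fun v => congrArg (fun g : orthGroup (sumForm Q₁ Q₂) => g.1 v) h
    refine Prod.ext (Subtype.ext (LinearEquiv.ext fun x => ?_)) (Subtype.ext (LinearEquiv.ext fun y => ?_))
    · have := congrArg (· ∘ Sum.inl) (h' (Sum.elim x 0))
      simpa [pairEquiv_apply] using this
    · have := congrArg (· ∘ Sum.inr) (h' (Sum.elim 0 y))
      simpa [pairEquiv_apply] using this

theorem fixSpace_pair (J : orthGroup Q₁ × orthGroup Q₂ →* orthGroup (sumForm Q₁ Q₂))
    (hJ : ∀ p v, (J p).1 v = Sum.elim (p.1.1 (v ∘ Sum.inl)) (p.2.1 (v ∘ Sum.inr))) (p : orthGroup Q₁ × orthGroup Q₂) :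
    par (J p) = par p.1 + par p.2 := by
  have h : fixSpace (J p) = ((fixSpace p.1).prod (fixSpace p.2)).comap
      ((LinearEquiv.sumArrowLequivProdArrow α β F F : (α ⊕ β → F) ≃ₗ[F] (α → F) × (β → F)) :
        (α ⊕ β → F) →ₗ[F] (α → F) × (β → F)) := by
    ext v
    rw [mem_fixSpace, hJ, Submodule.mem_comap, Submodule.mem_prod, mem_fixSpace, mem_fixSpace]
    show _ ↔ p.1.1 (v ∘ Sum.inl) = v ∘ Sum.inl ∧ p.2.1 (v ∘ Sum.inr) = v ∘ Sum.inr
    constructor
    · intro h
      exact ⟨by conv_rhs => rw [← h, Sum.elim_comp_inl], by conv_rhs => rw [← h, Sum.elim_comp_inr]⟩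
    · rintro ⟨h1, h2⟩
      rw [h1, h2, Sum.elim_comp_inl_inr]
  let e : ((fixSpace p.1).prod (fixSpace p.2)) ≃ₗ[F] fixSpace p.1 × fixSpace p.2 :=
    { toFun := fun x => (⟨x.1.1, x.2.1⟩, ⟨x.1.2, x.2.2⟩)
      invFun := fun x => ⟨(x.1.1, x.2.1), x.1.2, x.2.2⟩
      map_add' := fun _ _ => rfl
      map_smul' := fun _ _ => rfl
      left_inv := fun _ => rfl
      right_inv := fun _ => rfl }
  rw [par, par, par, ← Nat.cast_add, h, Submodule.comap_equiv_eq_map_symm, LinearEquiv.finrank_map_eq,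
    e.finrank_eq, Module.finrank_prod]

theorem pair_pow_apply (J : orthGroup Q₁ × orthGroup Q₂ →* orthGroup (sumForm Q₁ Q₂))
    (hJ : ∀ p v, (J p).1 v = Sum.elim (p.1.1 (v ∘ Sum.inl)) (p.2.1 (v ∘ Sum.inr))) (p : orthGroup Q₁ × orthGroup Q₂)
    (i : ℕ) (v : α ⊕ β → F) :
    ((J p) ^ i).1 v = Sum.elim ((p.1 ^ i).1 (v ∘ Sum.inl)) ((p.2 ^ i).1 (v ∘ Sum.inr)) := by
  rw [← map_pow, hJ]
  rfl

end Pair

section Sign

variable [Fintype F] {α β : Type} [Fintype α] [DecidableEq α] [Fintype β] [DecidableEq β]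

/-- `Q` lives in dimension `2 m` and has the zeros of the form of sign `s`. -/
def HasSign (Q : QuadraticForm F (α → F)) (m : ℕ) (s : ℤ) : Prop :=
  Fintype.card α = 2 * m ∧
    (Fintype.card F : ℤ) * zeroCount Q =
      (Fintype.card F : ℤ) ^ (2 * m) + ((Fintype.card F : ℤ) - 1) * s * (Fintype.card F : ℤ) ^ m

theorem HasSign.unique {Q : QuadraticForm F (α → F)} {m : ℕ} {s t : ℤ} (h : HasSign Q m s) (h' : HasSign Q m t) :
    s = t := by
  have h1 := h.2.symm.trans h'.2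
  have hq : (1 : ℤ) < Fintype.card F := by exact_mod_cast Fintype.one_lt_card (α := F)
  simp only [add_right_inj, mul_eq_mul_right_iff, mul_eq_mul_left_iff] at h1
  rcases h1 with (h1 | h1) | h1
  · exact h1
  · omega
  · exact absurd (pow_eq_zero_iff'.1 h1).1 (by omega)

theorem HasSign.congr {Q : QuadraticForm F (α → F)} {R : QuadraticForm F (β → F)} {m : ℕ} {s : ℤ}
    (h : HasSign Q m s) (e : (α → F) ≃ₗ[F] (β → F)) (he : ∀ v, R (e v) = Q v) : HasSign R m s := by
  obtain ⟨h1, h2⟩ := h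
  refine ⟨?_, by rw [← zeroCount_congr e he]; exact h2⟩
  rw [← h1]
  simpa using e.finrank_eq.symm

variable [CharP F 2]

/-- All non-zero values are taken equally often. -/
theorem card_value (Q : QuadraticForm F (α → F)) {c : F} (hc : c ≠ 0) :
    ((Fintype.card F : ℤ) - 1) * Nat.card {v // Q v = c} = (Fintype.card F : ℤ) ^ Fintype.card α - zeroCount Q := by
  classical
  have heq : ∀ d : F, d ≠ 0 → Nat.card {v // Q v = d} = Nat.card {v // Q v = c} := by
    intro d hd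
    obtain ⟨t, ht⟩ := FiniteField.isSquare_of_char_two (ringChar.eq F 2) (c / d)
    have ht0 : t ≠ 0 := fun h => div_ne_zero hc hd (by rw [ht, h, mul_zero])
    refine Nat.card_congr ((LinearEquiv.smulOfUnit (Units.mk0 t ht0)).toEquiv.subtypeEquiv fun v => ?_)
    show Q v = d ↔ Q (t • v) = c
    rw [quad_smul', ← ht]
    constructor
    · intro h; rw [h, div_mul_cancel₀ c hd]
    · intro h
      field_simp at h
      exact h
  have hsum : (Fintype.card F) ^ Fintype.card α = ∑ d : F, Nat.card {v // Q v = d} := by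
    rw [← Nat.card_sigma, Nat.card_congr (Equiv.sigmaFiberEquiv fun v => Q v), Nat.card_eq_fintype_card,
      Fintype.card_fun]
  rw [← Finset.add_sum_erase _ _ (Finset.mem_univ (0 : F)),
    Finset.sum_congr rfl (fun d hd => heq d (Finset.ne_of_mem_erase hd)), Finset.sum_const,
    Finset.card_erase_of_mem (Finset.mem_univ _), Finset.card_univ, smul_eq_mul] at hsum
  have h' := congrArg (Nat.cast : ℕ → ℤ) hsum
  push_cast [Nat.cast_sub (Fintype.card_pos : 1 ≤ Fintype.card F)] at h'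
  rw [h', zeroCount]
  ring

theorem zeroCount_sum (Q₁ : QuadraticForm F (α → F)) (Q₂ : QuadraticForm F (β → F)) :
    zeroCount (sumForm Q₁ Q₂) = ∑ c : F, Nat.card {x // Q₁ x = c} * Nat.card {y // Q₂ y = c} := by
  classical
  rw [Finset.sum_congr rfl fun c _ => (Nat.card_prod {x // Q₁ x = c} {y // Q₂ y = c}).symm, ← Nat.card_sigma,
    zeroCount]
  refine Nat.card_congr
    { toFun := fun v => ⟨Q₁ (v.1 ∘ Sum.inl), ⟨v.1 ∘ Sum.inl, rfl⟩, ⟨v.1 ∘ Sum.inr, by
        have h := v.2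
        rw [← sumForm_apply] at h
        exact (CharTwo.add_eq_zero.1 h).symm⟩⟩
      invFun := fun p => ⟨Sum.elim p.2.1.1 p.2.2.1, by
        rw [← sumForm_apply, Sum.elim_comp_inl, Sum.elim_comp_inr, p.2.1.2, p.2.2.2, CharTwo.add_self_eq_zero]⟩
      left_inv := fun v => Subtype.ext (Sum.elim_comp_inl_inr v.1)
      right_inv := ?_ }
  rintro ⟨c, ⟨x, rfl⟩, ⟨y, hy⟩⟩
  rfl

theorem HasSign.add {Q₁ : QuadraticForm F (α → F)} {Q₂ : QuadraticForm F (β → F)} {m n : ℕ} {s t : ℤ}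
    (h₁ : HasSign Q₁ m s) (h₂ : HasSign Q₂ n t) : HasSign (sumForm Q₁ Q₂) (m + n) (s * t) := by
  classical
  refine ⟨by rw [Fintype.card_sum, h₁.1, h₂.1]; ring, ?_⟩
  set q : ℤ := (Fintype.card F : ℤ) with hq
  have hq1 : q - 1 ≠ 0 := by
    have : (1 : ℤ) < q := by rw [hq]; exact_mod_cast Fintype.one_lt_card (α := F)
    omega
  have hq0 : q ≠ 0 := by rw [hq]; exact_mod_cast Fintype.card_ne_zero
  have hs : ((q - 1) * q) * ((q - 1) * q) * (zeroCount (sumForm Q₁ Q₂) : ℤ) =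
      ∑ c : F, ((q - 1) * q * Nat.card {x // Q₁ x = c}) * ((q - 1) * q * Nat.card {y // Q₂ y = c}) := by
    rw [zeroCount_sum, Nat.cast_sum, Finset.mul_sum]
    exact Finset.sum_congr rfl fun c _ => by push_cast; ring
  rw [← Finset.add_sum_erase _ _ (Finset.mem_univ (0 : F))] at hs
  have hc : ∀ c ∈ (Finset.univ : Finset F).erase 0,
      ((q - 1) * q * Nat.card {x // Q₁ x = c}) * ((q - 1) * q * Nat.card {y // Q₂ y = c}) =
        ((q - 1) * (q ^ (2 * m) - s * q ^ m)) * ((q - 1) * (q ^ (2 * n) - t * q ^ n)) := by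
    intro c hc
    have h1 := card_value Q₁ (Finset.ne_of_mem_erase hc)
    have h2 := card_value Q₂ (Finset.ne_of_mem_erase hc)
    rw [h₁.1] at h1
    rw [h₂.1] at h2
    congr 1
    · linear_combination q * h1 - h₁.2
    · linear_combination q * h2 - h₂.2
  rw [Finset.sum_congr rfl hc, Finset.sum_const, Finset.card_erase_of_mem (Finset.mem_univ _), Finset.card_univ,
    nsmul_eq_mul, Nat.cast_sub (Fintype.card_pos : 1 ≤ Fintype.card F), Nat.cast_one, ← hq] at hs
  have e1 : (q - 1) * q * (Nat.card {x // Q₁ x = 0} : ℤ) = (q - 1) * (q ^ (2 * m) + (q - 1) * s * q ^ m) := by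
    rw [mul_assoc]; exact congrArg _ h₁.2
  have e2 : (q - 1) * q * (Nat.card {y // Q₂ y = 0} : ℤ) = (q - 1) * (q ^ (2 * n) + (q - 1) * t * q ^ n) := by
    rw [mul_assoc]; exact congrArg _ h₂.2
  rw [e1, e2] at hs
  refine mul_left_cancel₀ (mul_ne_zero (mul_ne_zero hq1 hq1) hq0) ?_
  linear_combination hs

omit [CharP F 2] in
theorem plusForm_hasSign (m : ℕ) : HasSign (plusForm F m) m 1 :=
  ⟨by simp; ring, by rw [zeroCount_plus rfl m]; ring⟩

omit [CharP F 2] in
theorem minusForm_hasSign (m : ℕ) (a b : F)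
    (hab : ∀ z₁ z₂ : F, z₁ ^ 2 + a * z₁ * z₂ + b * z₂ ^ 2 = 0 → z₁ = 0 ∧ z₂ = 0) :
    HasSign (minusForm F m a b) (m + 1) (-1) :=
  ⟨by simp; ring, by rw [zeroCount_minus rfl a b hab m]; ring⟩

/-- A form of minus sign in dimension eight is the standard one. -/
theorem exists_iso_minus {ζ : F} (hζ : ∀ t : F, t ^ 2 + t + ζ ≠ 0) {Q : QuadraticForm F (α → F)}
    (hQ : (QuadraticMap.polarBilin Q).Nondegenerate) (h : HasSign Q 4 (-1)) :
    ∃ e : (α → F) ≃ₗ[F] ((Fin 3 ⊕ Fin 3) ⊕ Fin 2 → F), ∀ v, minusForm F 3 1 ζ (e v) = Q v := by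
  classical
  rcases classify_even hQ (m := 4) (by rw [Module.finrank_fintype_fun_eq_card, h.1]) with
    ⟨e, he⟩ | ⟨-, e, ζ', hζ', he⟩
  · have := h.unique ((plusForm_hasSign 4).congr e he)
    norm_num at this
  · obtain ⟨e', he'⟩ := exists_minus_iso (F := F) (m := 3) hζ hζ'
    refine ⟨e.symm.trans e', fun v => ?_⟩
    show minusForm F 3 1 ζ (e' (e.symm v)) = Q v
    rw [he', ← he, e.apply_symm_apply]

end Sign

end CfsgLib.Recognition.SpEight
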