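import Mathlib

/-!
The maximal element orders of `Sp₈(q)`, `q` even, and the combinatorics of the orbit data
`(degree, multiplicity, sign)` leading to them.
-/

set_option autoImplicit false

namespace CfsgLib.Recognition.SpEight

/-- `q ^ d + 1` (`b = true`) or `q ^ d - 1` (`b = false`). -/
def tor (q d : ℕ) (b : Bool) : ℕ := if b then q ^ d + 1 else q ^ d - 1

/-- The maximal orders. -/
def targets (q : ℕ) : Set ℕ :=
  {n | n = tor q 4 true ∨ n = tor q 2 true * tor q 2 false ∨ ∃ b : Bool,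
    n = tor q 3 b * tor q 1 (!b) ∨ n = 2 * tor q 3 b ∨ n = 2 * (tor q 2 true * tor q 1 b) ∨
      n = 4 * tor q 2 b ∨ n = 8 * tor q 1 b}

/-- The element orders. -/
def Good (q n : ℕ) : Prop := ∃ t ∈ targets q, n ∣ t

theorem Good.of_dvd {q m n : ℕ} (h : Good q n) (hd : m ∣ n) : Good q m :=
  let ⟨t, ht, hn⟩ := h
  ⟨t, ht, hd.trans hn⟩

variable {q : ℕ}

theorem tor_odd (hq : Even q) (hq0 : q ≠ 0) {d : ℕ} (hd : 1 ≤ d) (b : Bool) : Odd (tor q d b) := by
  have he : Even (q ^ d) := hq.pow_of_ne_zero (by omega)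
  have hp : 1 ≤ q ^ d := Nat.one_le_pow _ _ (Nat.pos_of_ne_zero hq0)
  cases b
  · simpa [tor] using Nat.Even.sub_odd hp he odd_one
  · simpa [tor] using he.add_one

theorem tor_one_dvd_two (b : Bool) : tor q 1 b ∣ tor q 2 false := by
  have h : q ^ 2 - 1 = (q + 1) * (q - 1) := by rw [← Nat.sq_sub_sq, one_pow]
  cases b
  · exact ⟨q + 1, by simp [tor, h, mul_comm]⟩
  · exact ⟨q - 1, by simp [tor, h]⟩

theorem tor_one_dvd_three (b : Bool) : tor q 1 b ∣ tor q 3 b := by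
  cases b
  · simpa [tor] using Nat.sub_dvd_pow_sub_pow q 1 3
  · simpa [tor] using (show Odd 3 by decide).nat_add_dvd_pow_add_pow q 1

/-- The total weight `∑ d m`. -/
def weight (l : Multiset (ℕ × ℕ × Bool)) : ℕ := (l.map fun e => e.1 * e.2.1).sum

theorem weight_cons (e : ℕ × ℕ × Bool) (l : Multiset (ℕ × ℕ × Bool)) :
    weight (e ::ₘ l) = e.1 * e.2.1 + weight l := by
  simp [weight]

/-- All entries are positive. -/
def Pos (l : Multiset (ℕ × ℕ × Bool)) : Prop := ∀ e ∈ l, 1 ≤ e.1 ∧ 1 ≤ e.2.1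

theorem bounds {l : Multiset (ℕ × ℕ × Bool)} (hl : Pos l) {e : ℕ × ℕ × Bool} (he : e ∈ l) :
    e.1 ≤ weight l ∧ e.2.1 ≤ weight l ∧ e.1 * e.2.1 ≤ weight l := by
  obtain ⟨t, rfl⟩ := Multiset.exists_cons_of_mem he
  obtain ⟨h1, h2⟩ := hl e he
  rw [weight_cons]
  have := Nat.le_mul_of_pos_right e.1 h2
  have := Nat.le_mul_of_pos_left e.2.1 h1
  omega

theorem eq_zero_of_weight {l : Multiset (ℕ × ℕ × Bool)} (hl : Pos l) (h : weight l = 0) : l = 0 := by
  refine Multiset.eq_zero_of_forall_notMem fun e he => ?_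
  have := (bounds hl he).1
  have := (hl e he).1
  omega

theorem eq_singleton_of_weight {l : Multiset (ℕ × ℕ × Bool)} (hl : Pos l) (h : weight l = 1) :
    ∃ b, l = {(1, 1, b)} := by
  rcases Multiset.empty_or_exists_mem l with rfl | ⟨e, he⟩
  · simp [weight] at h
  obtain ⟨h1, h2⟩ := hl e he
  obtain ⟨h3, h4, -⟩ := bounds hl he
  obtain ⟨d, m, b⟩ := e
  obtain rfl : d = 1 := by simp only at h1 h3; omega
  obtain rfl : m = 1 := by simp only at h2 h4; omega
  obtain ⟨t, rfl⟩ := Multiset.exists_cons_of_mem he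
  rw [weight_cons] at h
  have := eq_zero_of_weight (fun x hx => hl x (Multiset.mem_cons_of_mem hx)) (by simpa using h)
  exact ⟨b, by rw [this]; rfl⟩

/-- The combinatorial bound. -/
theorem exists_bound (hq : Even q) (hq0 : q ≠ 0) {l : Multiset (ℕ × ℕ × Bool)} (hl : Pos l) {r : ℕ}
    (h : 2 * weight l + r = 8) :
    ∃ L k, Odd L ∧ r ≤ 2 ^ k ∧ Good q (L * 2 ^ k) ∧ ∀ e ∈ l, tor q e.1 e.2.2 ∣ L ∧ e.2.1 ≤ 2 ^ k := by
  have ho : ∀ {d : ℕ} (b : Bool), 1 ≤ d → Odd (tor q d b) := fun b hd => tor_odd hq hq0 hd b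
  by_cases hbig : ∃ e ∈ l, 3 ≤ e.1 ∨ (e.1 = 2 ∧ e.2.2 = true)
  swap
  · -- every torus divides `q² - 1`
    have hdiv : ∀ e ∈ l, tor q e.1 e.2.2 ∣ tor q 2 false := by
      intro e he
      obtain ⟨d, m, b⟩ := e
      have h1 := (hl _ he).1
      simp only at h1 ⊢
      rcases (show d = 1 ∨ d = 2 ∨ 3 ≤ d by omega) with rfl | rfl | h3
      · exact tor_one_dvd_two b
      · cases b
        · exact dvd_rfl
        · exact absurd ⟨_, he, Or.inr ⟨rfl, rfl⟩⟩ hbig
      · exact absurd ⟨_, he, Or.inl h3⟩ hbig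
    rcases (show weight l = 0 ∨ weight l = 1 ∨ 2 ≤ weight l by omega) with hw | hw | hw
    · obtain rfl := eq_zero_of_weight hl hw
      exact ⟨tor q 1 true, 3, ho true le_rfl, by norm_num; omega,
        ⟨_, Or.inr (Or.inr ⟨true, Or.inr (Or.inr (Or.inr (Or.inr rfl)))⟩), by rw [mul_comm]; norm_num⟩,
        fun e he => absurd he (Multiset.notMem_zero e)⟩
    · obtain ⟨b, rfl⟩ := eq_singleton_of_weight hl hw
      exact ⟨tor q 1 b, 3, ho b le_rfl, by norm_num; omega,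
        ⟨_, Or.inr (Or.inr ⟨b, Or.inr (Or.inr (Or.inr (Or.inr rfl)))⟩), by rw [mul_comm]; norm_num⟩,
        fun e he => by rw [Multiset.mem_singleton.1 he]; exact ⟨dvd_rfl, by norm_num⟩⟩
    · exact ⟨tor q 2 false, 2, ho false (by omega), by norm_num; omega,
        ⟨_, Or.inr (Or.inr ⟨false, Or.inr (Or.inr (Or.inr (Or.inl rfl)))⟩), by rw [mul_comm]; norm_num⟩,
        fun e he => ⟨hdiv e he, by have := (bounds hl he).2.1; norm_num; omega⟩⟩
  obtain ⟨⟨d, m, b⟩, he, hcase⟩ := hbig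
  obtain ⟨h1, h2⟩ := hl _ he
  obtain ⟨h3, h4, -⟩ := bounds hl he
  obtain ⟨t, rfl⟩ := Multiset.exists_cons_of_mem he
  have ht : Pos t := fun x hx => hl x (Multiset.mem_cons_of_mem hx)
  rw [weight_cons] at h h3 h4
  simp only at h h1 h2 h3 h4 hcase
  have h5 : d * m ≤ 4 := by omega
  rcases (show d = 2 ∨ d = 3 ∨ d = 4 ∨ 5 ≤ d by omega) with rfl | rfl | rfl | h6
  rotate_left
  · -- degree three
    obtain rfl : m = 1 := by omega
    rcases (show weight t = 0 ∨ weight t = 1 by omega) with hw | hw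
    · obtain rfl := eq_zero_of_weight ht hw
      refine ⟨tor q 3 b, 1, ho b (by omega), by norm_num; omega,
        ⟨_, Or.inr (Or.inr ⟨b, Or.inr (Or.inl rfl)⟩), by rw [mul_comm]; norm_num⟩, ?_⟩
      simp
    · obtain ⟨c, rfl⟩ := eq_singleton_of_weight ht hw
      have hr : r = 0 := by omega
      by_cases hc : c = b
      · subst hc
        refine ⟨tor q 3 c, 0, ho c (by omega), by omega,
          ⟨_, Or.inr (Or.inr ⟨c, Or.inr (Or.inl rfl)⟩), by simp⟩, ?_⟩
        simpa using tor_one_dvd_three c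
      · obtain rfl : c = !b := by cases b <;> cases c <;> simp_all
        refine ⟨tor q 3 b * tor q 1 (!b), 0, (ho b (by omega)).mul (ho (!b) le_rfl), by omega,
          ⟨_, Or.inr (Or.inr ⟨b, Or.inl rfl⟩), by simp⟩, ?_⟩
        simp
  · -- degree four
    obtain rfl : m = 1 := by omega
    obtain rfl := eq_zero_of_weight ht (by omega)
    cases b
    · refine ⟨tor q 2 true * tor q 2 false, 0, (ho _ (by omega)).mul (ho _ (by omega)), by omega,
        ⟨_, Or.inr (Or.inl rfl), by simp⟩, ?_⟩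
      have h8 : q ^ 4 - 1 = (q ^ 2 + 1) * (q ^ 2 - 1) := by
        rw [← Nat.sq_sub_sq, ← pow_mul, one_pow]
      simp [tor, h8]
    · refine ⟨tor q 4 true, 0, ho _ (by omega), by omega, ⟨_, Or.inl rfl, by simp⟩, ?_⟩
      simp
  · have := Nat.le_mul_of_pos_right d h2
    omega
  -- degree two
  obtain rfl : b = true := by simpa using hcase
  rcases (show m = 1 ∨ m = 2 by omega) with rfl | rfl
  swap
  · obtain rfl := eq_zero_of_weight ht (by omega)
    refine ⟨tor q 2 true, 1, ho _ (by omega), by omega,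
      ⟨_, Or.inr (Or.inr ⟨true, Or.inr (Or.inr (Or.inr (Or.inl rfl)))⟩), ?_⟩, ?_⟩
    · exact ⟨2, by ring⟩
    · simp
  rcases (show weight t = 0 ∨ weight t = 1 ∨ weight t = 2 by omega) with hw | hw | hw
  · obtain rfl := eq_zero_of_weight ht hw
    refine ⟨tor q 2 true, 2, ho _ (by omega), by norm_num; omega,
      ⟨_, Or.inr (Or.inr ⟨true, Or.inr (Or.inr (Or.inr (Or.inl rfl)))⟩), by rw [mul_comm]; norm_num⟩, ?_⟩
    simp
  · obtain ⟨c, rfl⟩ := eq_singleton_of_weight ht hw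
    refine ⟨tor q 2 true * tor q 1 c, 1, (ho _ (by omega)).mul (ho c le_rfl), by norm_num; omega,
      ⟨_, Or.inr (Or.inr ⟨c, Or.inr (Or.inr (Or.inl rfl))⟩), by rw [mul_comm]; norm_num⟩, ?_⟩
    simp
  by_cases hm : ∃ e ∈ t, 2 ≤ e.2.1
  · obtain ⟨⟨d, m, c⟩, he', hm'⟩ := hm
    obtain ⟨k1, -⟩ := ht _ he'
    obtain ⟨-, -, k3⟩ := bounds ht he'
    obtain ⟨s, rfl⟩ := Multiset.exists_cons_of_mem he'
    rw [weight_cons] at hw
    simp only at hw hm' k1 k3
    have := Nat.le_mul_of_pos_left m k1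
    obtain rfl : m = 2 := by omega
    obtain rfl : d = 1 := by omega
    obtain rfl := eq_zero_of_weight (fun x hx => ht x (Multiset.mem_cons_of_mem hx)) (show weight s = 0 by omega)
    refine ⟨tor q 2 true * tor q 1 c, 1, (ho _ (by omega)).mul (ho c le_rfl), by omega,
      ⟨_, Or.inr (Or.inr ⟨c, Or.inr (Or.inr (Or.inl rfl))⟩), by rw [mul_comm]; norm_num⟩, ?_⟩
    simp
  · refine ⟨tor q 2 true * tor q 2 false, 0, (ho _ (by omega)).mul (ho _ (by omega)), by omega,
      ⟨_, Or.inr (Or.inl rfl), by simp⟩, fun e he' => ?_⟩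
    rcases Multiset.mem_cons.1 he' with rfl | he''
    · exact ⟨dvd_mul_right _ _, le_rfl⟩
    refine ⟨?_, by
      by_contra hgt
      exact hm ⟨e, he'', by omega⟩⟩
    obtain ⟨d, m', c⟩ := e
    obtain ⟨k1, -⟩ := ht _ he''
    obtain ⟨k2, -, -⟩ := bounds ht he''
    simp only at k1 k2 ⊢
    rcases (show d = 1 ∨ d = 2 by omega) with rfl | rfl
    · exact (tor_one_dvd_two c).mul_left _
    · cases c
      · exact dvd_mul_left _ _
      · exact dvd_mul_right _ _

end CfsgLib.Recognition.SpEight
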