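import Mathlib
import Cfsg.Agent.Lib.Recognition.SpEight.Sums
import Cfsg.Agent.Lib.Recognition.SpEight.Targets

/-!
Cyclic tori of orders `q ^ d - 1` and `q ^ d + 1` in the orthogonal groups of dimension `2 d`.
-/

set_option autoImplicit false

namespace CfsgLib.Recognition.SpEight

open QuadraticMap Module CfsgLib.Orth CfsgLib.Classical Matrix

variable (F : Type*) [Field F] [Fintype F]

/-- An isometry of order `n` in some non-degenerate space of dimension `2 m` and sign `s`. -/
def GOElem (m : ℕ) (s : ℤ) (n : ℕ) : Prop :=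
  ∃ (α : Type) (_ : Fintype α) (_ : DecidableEq α) (Q : QuadraticForm F (α → F)),
    (QuadraticMap.polarBilin Q).Nondegenerate ∧ HasSign Q m s ∧ ∃ g : orthGroup Q, orderOf g = n

/-- The sign of the space carrying the torus `tor q d b`. -/
def sgn (b : Bool) : ℤ := if b then -1 else 1

variable {F} [CharP F 2]

theorem goElem_plus {d : ℕ} (hd : 1 ≤ d) : GOElem F d (sgn false) (tor (Fintype.card F) d false) := by
  classical
  haveI : NeZero d := ⟨by omega⟩
  let K := FiniteField.Extension F 2 d
  haveI : Fintype K := Fintype.ofFinite K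
  have hK : finrank F K = d := FiniteField.finrank_extension F 2 d
  haveI : FiniteDimensional F K := Module.finite_of_finrank_pos (by omega)
  obtain ⟨γ, hγ⟩ := IsCyclic.exists_ofOrder_eq_natCard (α := Kˣ)
  have hγord : orderOf γ = tor (Fintype.card F) d false := by
    rw [hγ, Nat.card_units, Nat.card_eq_fintype_card, Module.card_eq_pow_finrank (K := F), hK]
    rfl
  let b := Module.finBasisOfFinrankEq F K hK
  let A : GL (Fin d) F := Units.map (Algebra.leftMulMatrix b).toMonoidHom γ
  have hA : orderOf A = tor (Fintype.card F) d false := by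
    rw [← hγord]
    exact orderOf_injective _ (Units.map_injective (Algebra.leftMulMatrix_injective b)) γ
  let f : GL (Fin d) F → ((Fin d ⊕ Fin d → F) →ₗ[F] (Fin d ⊕ Fin d → F)) := fun B =>
    (LinearEquiv.sumArrowLequivProdArrow (Fin d) (Fin d) F F).symm.toLinearMap ∘ₗ
      ((Matrix.toLin' (B : Matrix (Fin d) (Fin d) F)).prodMap
        (Matrix.toLin' ((B⁻¹ : GL (Fin d) F) : Matrix (Fin d) (Fin d) F)ᵀ)) ∘ₗ
      (LinearEquiv.sumArrowLequivProdArrow (Fin d) (Fin d) F F).toLinearMap
  have hf : ∀ B v, f B v = Sum.elim ((B : Matrix (Fin d) (Fin d) F) *ᵥ (v ∘ Sum.inl))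
      ((((B⁻¹ : GL (Fin d) F) : Matrix (Fin d) (Fin d) F)ᵀ) *ᵥ (v ∘ Sum.inr)) := by
    intro B v
    funext k; rcases k with i | i <;> rfl
  have hdot : ∀ v, plusForm F d v = (v ∘ Sum.inl) ⬝ᵥ (v ∘ Sum.inr) := fun v => (plusForm_apply d v).symm
  have hpres : ∀ B v, plusForm F d (f B v) = plusForm F d v := by
    intro B v
    rw [hdot, hdot, hf, Sum.elim_comp_inl, Sum.elim_comp_inr, Matrix.dotProduct_mulVec, Matrix.vecMul_transpose,
      Matrix.mulVec_mulVec, Units.inv_mul, Matrix.one_mulVec]
  choose G hG using fun B => exists_of_preserving (plusForm_nondeg d) (f B) (hpres B)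
  have hmul : ∀ B C, G (B * C) = G B * G C := by
    intro B C
    refine Subtype.ext (LinearEquiv.ext fun v => ?_)
    show (G (B * C)).1 v = (G B).1 ((G C).1 v)
    rw [hG, hG, hG, hf, hf, hf, Sum.elim_comp_inl, Sum.elim_comp_inr, Matrix.mulVec_mulVec, Matrix.mulVec_mulVec,
      _root_.mul_inv_rev, Units.val_mul, Units.val_mul, Matrix.transpose_mul]
  have hinj : Function.Injective (MonoidHom.mk' G hmul) := by
    intro B C h
    refine Units.ext (Matrix.toLin'.injective (LinearMap.ext fun x => ?_))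
    have h1 := congrArg (fun g : orthGroup (plusForm F d) => g.1 (Sum.elim x 0) ∘ Sum.inl) h
    simpa [hG, hf] using h1
  refine ⟨Fin d ⊕ Fin d, inferInstance, inferInstance, plusForm F d, plusForm_nondeg d, plusForm_hasSign d,
    G A, ?_⟩
  rw [← hA]
  exact orderOf_injective _ hinj A

theorem goElem_minus {d : ℕ} (hd : 1 ≤ d) : GOElem F d (sgn true) (tor (Fintype.card F) d true) := by
  classical
  haveI : NeZero (2 * d) := ⟨by omega⟩
  let K := FiniteField.Extension F 2 (2 * d)
  haveI : Fintype K := Fintype.ofFinite K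
  have hK : finrank F K = 2 * d := FiniteField.finrank_extension F 2 (2 * d)
  haveI : FiniteDimensional F K := Module.finite_of_finrank_pos (by omega)
  haveI : CharP K 2 := charP_of_injective_ringHom (algebraMap F K).injective 2
  set q := Fintype.card F with hq
  set Q := q ^ d with hQdef
  have hq2 : 2 ≤ q := Fintype.one_lt_card (α := F)
  have hQ2 : 2 ≤ Q := le_trans hq2 (Nat.le_self_pow (by omega) q)
  have hcardK : Fintype.card K = Q * Q := by
    rw [Module.card_eq_pow_finrank (K := F), hK, two_mul, pow_add]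
  let σ : K ≃ₐ[F] K := (FiniteField.frobeniusAlgEquivOfAlgebraic F K) ^ d
  have hσ : ∀ x, σ x = x ^ Q := fun x => by
    show ((FiniteField.frobeniusAlgEquivOfAlgebraic F K) ^ d) x = _
    rw [AlgEquiv.coe_pow, FiniteField.coe_frobeniusAlgEquivOfAlgebraic, pow_iterate]
  have hσσ : ∀ x, σ (σ x) = x := fun x => by
    rw [hσ, hσ, ← pow_mul, ← hcardK, FiniteField.pow_card]
  obtain ⟨γ, hγ⟩ := IsCyclic.exists_ofOrder_eq_natCard (α := Kˣ)
  have hγord : orderOf γ = (Q - 1) * (Q + 1) := by
    rw [hγ, Nat.card_units, Nat.card_eq_fintype_card, hcardK, mul_comm (Q - 1), ← Nat.mul_self_sub_mul_self_eq,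
      mul_one]
  set z : Kˣ := γ ^ (Q - 1) with hz
  have hzord : orderOf z = Q + 1 := by
    rw [hz, orderOf_pow_of_dvd (by omega) (hγord ▸ dvd_mul_right _ _), hγord,
      Nat.mul_div_cancel_left _ (by omega)]
  have hzσ : (z : K) * σ z = 1 := by
    rw [hσ, ← pow_succ', ← Units.val_pow_eq_pow_val, ← hzord, pow_orderOf_eq_one, Units.val_one]
  obtain ⟨c, hc⟩ : ∃ c : K, c + σ c = 1 := by
    have hw : (γ : K) + σ γ ≠ 0 := by
      intro h
      have h1 : ((γ : K)) ^ Q = γ ^ 1 := by
        rw [← hσ, pow_one]; exact (CharTwo.add_eq_zero.1 h).symm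
      rw [← Units.val_pow_eq_pow_val, ← Units.val_pow_eq_pow_val, Units.val_inj, pow_eq_pow_iff_modEq, hγord] at h1
      have h3 := (Nat.modEq_iff_dvd' (show 1 ≤ Q by omega)).1 h1.symm
      have := Nat.le_of_dvd (by omega) h3
      nlinarith [show 1 ≤ Q - 1 by omega]
    refine ⟨(γ : K) / ((γ : K) + σ γ), ?_⟩
    rw [map_div₀, map_add, hσσ, add_comm (σ (γ : K)) γ, ← add_div, div_self hw]
  let B : K →ₗ[F] K →ₗ[F] F :=
    (Algebra.traceForm F K).compl₁₂ (LinearMap.mulLeft F c) σ.toLinearMap
  have hB : ∀ x y, B x y = Algebra.trace F K (c * x * σ y) := fun x y => rfl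
  let eK : (Fin (2 * d) → F) ≃ₗ[F] K := (Module.finBasisOfFinrankEq F K hK).equivFun.symm
  let R : QuadraticForm F (Fin (2 * d) → F) :=
    (LinearMap.BilinMap.toQuadraticMap B).comp (eK : (Fin (2 * d) → F) →ₗ[F] K)
  have hR : ∀ v, R v = Algebra.trace F K (c * eK v * σ (eK v)) := fun v => rfl
  have hpolar : ∀ u v, polar R u v = Algebra.trace F K (eK u * σ (eK v)) := by
    intro u v
    have h1 : Algebra.trace F K (σ (c * eK v * σ (eK u))) = Algebra.trace F K (c * eK v * σ (eK u)) :=
      Algebra.trace_eq_of_algEquiv σ _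
    have h2 : polar R u v =
        Algebra.trace F K (c * eK u * σ (eK v)) + Algebra.trace F K (c * eK v * σ (eK u)) := by
      simp only [polar, hR, map_add, mul_add, add_mul]
      ring
    rw [h2, ← h1, map_mul σ, map_mul σ, hσσ, ← map_add]
    congr 1
    linear_combination (eK u * σ (eK v)) * hc
  have hnd : (QuadraticMap.polarBilin R).Nondegenerate := by
    refine nondegenerate_of_left fun v hv => ?_
    have h := (traceForm_nondegenerate F K).1 (eK v) fun y => by
      have h1 := hv (eK.symm (σ y))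
      rw [hpolar, eK.apply_symm_apply, hσσ] at h1
      exact h1
    exact eK.map_eq_zero_iff.1 h
  let Z : K ≃ₗ[F] K :=
    { LinearMap.mulLeft F (z : K) with
      invFun := fun x => (z : K)⁻¹ * x
      left_inv := fun x => inv_mul_cancel_left₀ (Units.ne_zero _) x
      right_inv := fun x => mul_inv_cancel_left₀ (Units.ne_zero _) x }
  let g : orthGroup R := ⟨(eK.trans Z).trans eK.symm, fun v => by
    rw [hR, hR]
    show Algebra.trace F K (c * eK (eK.symm ((z : K) * eK v)) * σ (eK (eK.symm ((z : K) * eK v)))) = _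
    rw [eK.apply_symm_apply, map_mul σ]
    rw [show c * ((z : K) * eK v) * (σ z * σ (eK v)) = ((z : K) * σ z) * (c * eK v * σ (eK v)) by ring, hzσ, one_mul]⟩
  have hgpow : ∀ (i : ℕ) (v : Fin (2 * d) → F), eK ((g ^ i).1 v) = (z : K) ^ i * eK v := by
    intro i
    induction i with
    | zero => intro v; simp
    | succ i ih =>
      intro v
      rw [pow_succ']
      show eK (eK.symm ((z : K) * eK ((g ^ i).1 v))) = _
      rw [eK.apply_symm_apply, ih, pow_succ', mul_assoc]
  have hgord : orderOf g = Q + 1 := by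
    rw [← hzord, orderOf_eq_orderOf_iff]
    intro i
    constructor
    · intro h
      apply Units.ext
      have h1 := hgpow i (eK.symm 1)
      rw [h, eK.apply_symm_apply, mul_one] at h1
      simpa using h1.symm
    · intro h
      refine Subtype.ext (LinearEquiv.ext fun v => eK.injective ?_)
      rw [hgpow, ← Units.val_pow_eq_pow_val, h, Units.val_one, one_mul]
      rfl
  refine ⟨Fin (2 * d), inferInstance, inferInstance, R, hnd, ?_, g, by rw [hgord]; rfl⟩
  rcases classify_even hnd (m := d) (by simp) with ⟨e, he⟩ | ⟨-, e, ζ, hζ, he⟩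
  swap
  · have h1 := (minusForm_hasSign (d - 1) 1 ζ (anisotropic_of_no_root hζ)).congr e he
    rw [Nat.sub_add_cancel hd] at h1
    exact h1
  exfalso
  -- the torus permutes the non-zero singular vectors semiregularly
  let s : Set Kˣ := {x | R (eK.symm (x : K)) = 0}
  have hs : ∀ x ∈ s, ∀ i : ℕ, x * z ^ i ∈ s := by
    intro x hx i
    have h1 := apply_quad (g ^ i) (eK.symm (x : K))
    rw [show (g ^ i).1 (eK.symm (x : K)) = eK.symm ((x * z ^ i : Kˣ) : K) from eK.injective (by
      rw [hgpow, eK.apply_symm_apply, eK.apply_symm_apply, Units.val_mul, Units.val_pow_eq_pow_val z i]; exact mul_comm _ _)] at h1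
    exact h1.trans hx
  have hsat : s = QuotientGroup.mk ⁻¹' ((QuotientGroup.mk : Kˣ → Kˣ ⧸ Subgroup.zpowers z) '' s) := by
    refine Set.Subset.antisymm (Set.subset_preimage_image _ _) ?_
    rintro y ⟨x, hx, hxy⟩
    rw [QuotientGroup.eq, mem_zpowers_iff_mem_range_orderOf, Finset.mem_image] at hxy
    obtain ⟨i, -, hi⟩ := hxy
    have := hs x hx i
    rwa [hi, mul_inv_cancel_left] at this
  have hdvd : Q + 1 ∣ Nat.card s := by
    have h1 : Nat.card s = Nat.card (Subgroup.zpowers z × ((QuotientGroup.mk : Kˣ → Kˣ ⧸ Subgroup.zpowers z) '' s)) := by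
      conv_lhs => rw [hsat]
      exact Nat.card_congr (QuotientGroup.preimageMkEquivSubgroupProdSet (Subgroup.zpowers z) _)
    rw [h1, Nat.card_prod, Nat.card_zpowers, hzord]
    exact dvd_mul_right _ _
  have hcard : zeroCount R = Nat.card s + 1 := by
    rw [zeroCount, ← Finite.card_option (α := s)]
    refine Nat.card_congr
      { toFun := fun v => if h : eK v.1 = 0 then none else some ⟨Units.mk0 _ h, by
          show R (eK.symm ((Units.mk0 _ h : Kˣ) : K)) = 0
          rw [Units.val_mk0, eK.symm_apply_apply]; exact v.2⟩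
        invFun := fun o => match o with
          | none => ⟨0, QuadraticMap.map_zero R⟩
          | some x => ⟨eK.symm (x.1 : K), x.2⟩
        left_inv := fun v => ?_
        right_inv := fun o => ?_ }
    · dsimp only
      split_ifs with h
      · exact Subtype.ext (eK.injective (by rw [h, map_zero]))
      · exact Subtype.ext (by simp)
    · rcases o with _ | x
      · simp
      · simp
  have hplus := zeroCount_plus (F := F) rfl d
  rw [zeroCount_congr e he, hcard] at hplus
  -- so `Q + 1` divides `2 (q ^ (d - 1) + 1)`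
  obtain ⟨k, hk⟩ := hdvd
  rw [hk, ← hq] at hplus
  push_cast at hplus
  have hQ : (Q : ℤ) = (q : ℤ) ^ d := by rw [hQdef]; push_cast; rfl
  have hP : (Q : ℤ) = (q : ℤ) * (q : ℤ) ^ (d - 1) := by rw [hQ, ← pow_succ', Nat.sub_add_cancel hd]
  set P : ℕ := q ^ (d - 1) with hPdef
  have hP' : (Q : ℤ) = (q : ℤ) * (P : ℤ) := by rw [hP, hPdef]; push_cast; rfl
  have h2 : ((q : ℤ) ^ d - 1) * ((P : ℤ) + 1) = ((Q : ℤ) + 1) * k := by
    apply mul_left_cancel₀ (show (q : ℤ) ≠ 0 by exact_mod_cast (show q ≠ 0 by omega))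
    rw [two_mul, pow_add, ← hQ] at hplus
    rw [← hQ]
    linear_combination -hplus - ((Q : ℤ) - 1) * hP'
  have h3 : (Q + 1 : ℕ) ∣ 2 * (P + 1) := by
    rw [← Int.natCast_dvd_natCast]
    refine ⟨(P : ℤ) + 1 - k, ?_⟩
    push_cast
    rw [← hQ] at h2
    linear_combination -h2
  have hodd : Odd (Q + 1) := by
    obtain ⟨e', -, he'⟩ := FiniteField.card F 2
    rw [hQdef, hq, he']
    exact ((Nat.even_pow.2 ⟨even_two, e'.ne_zero⟩).pow_of_ne_zero (by omega)).add_one
  have h4 : Q + 1 ∣ P + 1 := (Nat.Coprime.dvd_of_dvd_mul_left (Nat.coprime_two_right.2 hodd) h3)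
  have h5 := Nat.le_of_dvd (Nat.succ_pos _) h4
  have h6 : Q = P * q := by rw [hQdef, hPdef, ← pow_succ, Nat.sub_add_cancel hd]
  have h7 : 0 < P := Nat.pow_pos (by omega)
  nlinarith

theorem goElem_tor {d : ℕ} (hd : 1 ≤ d) (b : Bool) : GOElem F d (sgn b) (tor (Fintype.card F) d b) := by
  cases b
  · exact goElem_plus hd
  · exact goElem_minus hd

end CfsgLib.Recognition.SpEight
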