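import Mathlib
import Cfsg.Agent.Lib.Recognition.SpEight.Tori

/-!
Elements of the orthogonal group of minus type in dimension eight, `q` even, of every maximal
order, and elements with a non-zero norm map in the index two subgroup.
-/

set_option autoImplicit false

namespace CfsgLib.Recognition.SpEight

open QuadraticMap Module CfsgLib.Orth CfsgLib.Classical

variable {F : Type*} [Field F] [Fintype F] [CharP F 2]

theorem GOElem.add {m n : ℕ} {s t : ℤ} {a b : ℕ} (h₁ : GOElem F m s a) (h₂ : GOElem F n t b) :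
    GOElem F (m + n) (s * t) (Nat.lcm a b) := by
  obtain ⟨α, i₁, i₂, Q₁, n₁, s₁, g₁, o₁⟩ := h₁
  obtain ⟨β, j₁, j₂, Q₂, n₂, s₂, g₂, o₂⟩ := h₂
  obtain ⟨J, hJ, -⟩ := exists_pairHom Q₁ Q₂
  exact ⟨α ⊕ β, inferInstance, inferInstance, sumForm Q₁ Q₂, sumForm_nondeg n₁ n₂, s₁.add s₂, J (g₁, g₂), by
    rw [orderOf_injective J hJ, Prod.orderOf, o₁, o₂]⟩

variable (F) in
/-- An element of `2`-power order `2 ^ k`, of even parity, with non-zero norm map. -/
def AffElem (m : ℕ) (s : ℤ) (k : ℕ) : Prop :=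
  ∃ (α : Type) (_ : Fintype α) (_ : DecidableEq α) (Q : QuadraticForm F (α → F)),
    (QuadraticMap.polarBilin Q).Nondegenerate ∧ HasSign Q m s ∧
      ∃ (g : orthGroup Q) (v : α → F), orderOf g = 2 ^ k ∧ par g = 0 ∧
        (∑ i ∈ Finset.range (2 ^ k), (g ^ i).1 v) ≠ 0

/-- A plane of either sign with a reflection and a vector it moves. -/
theorem exists_plane (b : Bool) :
    ∃ (α : Type) (_ : Fintype α) (_ : DecidableEq α) (Q : QuadraticForm F (α → F)),
      (QuadraticMap.polarBilin Q).Nondegenerate ∧ HasSign Q 1 (sgn b) ∧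
        ∃ a w : α → F, Q a ≠ 0 ∧ polar Q a w ≠ 0 := by
  obtain ⟨α, i₁, i₂, Q, hnd, hs, -⟩ := goElem_tor (F := F) (d := 1) le_rfl b
  refine ⟨α, i₁, i₂, Q, hnd, hs, ?_⟩
  have hne : Nonempty α := Fintype.card_pos_iff.1 (by rw [hs.1]; omega)
  obtain ⟨a, ha⟩ : ∃ a, Q a ≠ 0 := by
    by_contra hall
    push Not at hall
    obtain ⟨v, hv⟩ := exists_ne (0 : α → F)
    exact hv (eq_zero_of_polar hnd fun w => by simp [polar, hall])
  obtain ⟨w, hw⟩ : ∃ w, polar Q a w ≠ 0 := by
    by_contra hall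
    push Not at hall
    exact ha (by rw [eq_zero_of_polar hnd hall, QuadraticMap.map_zero])
  exact ⟨a, w, ha, hw⟩

section Reflection

variable {α : Type} [Fintype α] [DecidableEq α] {Q : QuadraticForm F (α → F)} {a w : α → F}

theorem refl_two (ha : Q a ≠ 0) (hw : polar Q a w ≠ 0) :
    orderOf (refl Q a) = 2 ∧ w + (refl Q a).1 w ≠ 0 ∧ (refl Q a).1 (w + (refl Q a).1 w) = w + (refl Q a).1 w := by
  have ha0 : a ≠ 0 := fun h => ha (by rw [h, QuadraticMap.map_zero])
  have hz : w + (refl Q a).1 w = ((Q a)⁻¹ * polar Q a w) • a := by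
    rw [refl_apply]
    funext i
    simp only [Pi.add_apply, Pi.sub_apply, Pi.smul_apply, smul_eq_mul, CharTwo.sub_eq_add, ← add_assoc,
      CharTwo.add_self_eq_zero, zero_add]
  have hne : w + (refl Q a).1 w ≠ 0 := by
    rw [hz]; exact smul_ne_zero (mul_ne_zero (inv_ne_zero ha) hw) ha0
  refine ⟨orderOf_eq_prime (by rw [pow_two, refl_mul_self]) fun h => hne ?_, hne, ?_⟩
  · funext i
    rw [h]
    exact CharTwo.add_self_eq_zero (w i)
  · rw [hz, map_smul, refl_self Q ha]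
    congr 1
    funext i
    exact CharTwo.neg_eq (a i)

end Reflection

/-- The point `(x, a, b)` of a space with an extra hyperbolic pair. -/
def pt {α : Type} (x : α → F) (a b : F) : α ⊕ (Fin 1 ⊕ Fin 1) → F :=
  Sum.elim x (Sum.elim (fun _ => a) fun _ => b)

omit [Fintype F] [CharP F 2] in
theorem eq_pt {α : Type} (v : α ⊕ (Fin 1 ⊕ Fin 1) → F) :
    v = pt (v ∘ Sum.inl) (v (.inr (.inl 0))) (v (.inr (.inr 0))) := by
  funext k
  rcases k with i | i | i
  · rfl
  · rw [Subsingleton.elim i 0]; rfl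
  · rw [Subsingleton.elim i 0]; rfl

section Step

variable {α : Type} [Fintype α] [DecidableEq α] {Q : QuadraticForm F (α → F)}

omit [Fintype F] [CharP F 2] in
theorem sumForm_pt (x : α → F) (a b : F) : sumForm Q (plusForm F 1) (pt x a b) = Q x + a * b := by
  rw [← sumForm_apply, ← plusForm_apply]
  simp [pt, Cfsg.quadFormPlus]

/-- A Siegel map times an isometry of the orthogonal complement doubles a `2`-power order. -/
theorem exists_step (hQ : (QuadraticMap.polarBilin Q).Nondegenerate) (h : orthGroup Q) {k : ℕ}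
    (hh : h ^ 2 ^ k = 1) (w : α → F) (hw : (∑ i ∈ Finset.range (2 ^ k), (h ^ i).1 w) ≠ 0) :
    ∃ G : orthGroup (sumForm Q (plusForm F 1)), orderOf G = 2 ^ (k + 1) ∧
      ∀ x a b, G.1 (pt x a b) = pt (h.1 x + b • w) (a + polar Q w (h.1 x) + Q w * b) b := by
  classical
  let f : (α ⊕ (Fin 1 ⊕ Fin 1) → F) →ₗ[F] (α ⊕ (Fin 1 ⊕ Fin 1) → F) :=
    { toFun := fun v => pt (h.1 (v ∘ Sum.inl) + v (.inr (.inr 0)) • w)
        (v (.inr (.inl 0)) + polar Q w (h.1 (v ∘ Sum.inl)) + Q w * v (.inr (.inr 0))) (v (.inr (.inr 0)))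
      map_add' := fun u v => by
        have e : (u + v) ∘ (Sum.inl : α → α ⊕ (Fin 1 ⊕ Fin 1)) = u ∘ Sum.inl + v ∘ Sum.inl := rfl
        funext i
        rcases i with i | i | i
        · simp [pt, e, add_smul]; ring
        · simp [pt, e, polar_add_right]; ring
        · simp [pt]
      map_smul' := fun c v => by
        have e : (c • v) ∘ (Sum.inl : α → α ⊕ (Fin 1 ⊕ Fin 1)) = c • (v ∘ Sum.inl) := rfl
        funext i
        rcases i with i | i | i
        · simp [pt, e, mul_smul]; ring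
        · simp [pt, e, polar_smul_r']; ring
        · simp [pt] }
  obtain ⟨G, hG⟩ := exists_of_preserving (sumForm_nondeg hQ (plusForm_nondeg 1)) f (fun v => by
    show sumForm Q (plusForm F 1) (pt _ _ _) = _
    conv_rhs => rw [eq_pt v]
    rw [sumForm_pt, sumForm_pt, quad_add', quad_smul', apply_quad, polar_smul_r', polar_comm _ _ w]
    linear_combination (v (.inr (.inr 0)) * v (.inr (.inr 0)) * Q w +
      v (.inr (.inr 0)) * polar Q w (h.1 (v ∘ Sum.inl))) * CharTwo.two_eq_zero (R := F))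
  have hGf : ∀ x a b, G.1 (pt x a b) = pt (h.1 x + b • w) (a + polar Q w (h.1 x) + Q w * b) b := fun x a b => by
    rw [hG]; rfl
  refine ⟨G, ?_, hGf⟩
  have hpow : ∀ (n : ℕ) (x : α → F) (a b : F),
      ∃ a', (G ^ n).1 (pt x a b) = pt ((h ^ n).1 x + b • ∑ i ∈ Finset.range n, (h ^ i).1 w) a' b := by
    intro n
    induction n with
    | zero => intro x a b; exact ⟨a, by simp⟩
    | succ n ih =>
      intro x a b
      obtain ⟨a', ha'⟩ := ih x a b
      have e : (G ^ (n + 1)).1 (pt x a b) = G.1 ((G ^ n).1 (pt x a b)) := by rw [pow_succ']; rfl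
      rw [ha', hGf] at e
      refine ⟨a' + polar Q w (h.1 ((h ^ n).1 x + b • ∑ i ∈ Finset.range n, (h ^ i).1 w)) + Q w * b, e.trans ?_⟩
      congr 1
      rw [map_add, map_smul, Finset.sum_range_succ', map_sum, smul_add, pow_zero, pow_succ', add_assoc]
      simp only [pow_succ']
      rfl
  have hN : (h ^ (2 ^ k + 2 ^ k)) = 1 := by rw [pow_add, hh, one_mul]
  have hS : ∑ i ∈ Finset.range (2 ^ k + 2 ^ k), (h ^ i).1 w = 0 := by
    rw [Finset.sum_range_add]
    simp only [pow_add, hh, one_mul]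
    funext i
    exact CharTwo.add_self_eq_zero _
  apply orderOf_eq_prime_pow
  · intro h1
    obtain ⟨a', ha'⟩ := hpow (2 ^ k) 0 0 1
    rw [h1, one_smul, map_zero, zero_add] at ha'
    exact hw (congrArg (· ∘ Sum.inl) ha').symm
  · refine Subtype.ext (LinearEquiv.ext fun v => ?_)
    show (G ^ 2 ^ (k + 1)).1 v = v
    rw [pow_succ 2 k, mul_two]
    have key : ∀ x a b, b ≠ 0 → (G ^ (2 ^ k + 2 ^ k)).1 (pt x a b) = pt x a b := by
      intro x a b hb
      obtain ⟨a', ha'⟩ := hpow (2 ^ k + 2 ^ k) x a b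
      rw [hN, hS, smul_zero, add_zero] at ha'
      have hval := apply_quad (G ^ (2 ^ k + 2 ^ k)) (pt x a b)
      rw [ha', sumForm_pt, sumForm_pt] at hval
      have : a' = a := mul_right_cancel₀ hb (add_left_cancel hval)
      rw [ha', this]
      rfl
    rw [eq_pt v]
    by_cases hb : v (.inr (.inr 0)) = 0
    · have e : pt (v ∘ Sum.inl) (v (.inr (.inl 0))) (v (.inr (.inr 0))) =
          pt (v ∘ Sum.inl) (v (.inr (.inl 0))) 1 + pt 0 0 1 := by
        funext i
        rcases i with i | i | i <;> simp [pt, hb, CharTwo.add_self_eq_zero]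
      rw [e, map_add, key _ _ _ one_ne_zero, key _ _ _ one_ne_zero]
    · exact key _ _ _ hb

end Step

/-- The element of order four in dimension four. -/
theorem exists_four (b : Bool) :
    ∃ (α : Type) (_ : Fintype α) (_ : DecidableEq α) (Q : QuadraticForm F (α → F)),
      (QuadraticMap.polarBilin Q).Nondegenerate ∧ HasSign Q 2 (sgn b) ∧
        ∃ (G : orthGroup Q) (f : α → F), orderOf G = 4 ∧ (∑ i ∈ Finset.range 4, (G ^ i).1 f) ≠ 0 := by
  obtain ⟨α, i₁, i₂, Q, hnd, hs, a, w, ha, hw⟩ := exists_plane (F := F) b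
  obtain ⟨hord, hne, hfix⟩ := refl_two ha hw
  obtain ⟨G, hG, hGf⟩ := exists_step hnd (refl Q a) (k := 1) (by rw [pow_one, pow_two, refl_mul_self]) w (by
    rw [pow_one, Finset.sum_range_succ, Finset.sum_range_one, pow_zero, pow_one]
    exact hne)
  have hsum := hs.add (plusForm_hasSign (F := F) 1)
  rw [mul_one] at hsum
  refine ⟨_, inferInstance, inferInstance, _, sumForm_nondeg hnd (plusForm_nondeg 1), hsum, G, pt 0 0 1,
    by rw [hG]; norm_num, fun h0 => ?_⟩
  have h1 := congrFun h0 (.inr (.inl 0))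
  have g1 : G.1 (pt 0 0 1) = pt w (Q w) 1 := by
    rw [hGf]; simp
  have g2 : G.1 (G.1 (pt 0 0 1)) = pt ((refl Q a).1 w + w) (polar Q w ((refl Q a).1 w)) 1 := by
    rw [g1, hGf, one_smul, mul_one]
    congr 1
    linear_combination Q w * CharTwo.two_eq_zero (R := F)
  have g3 : G.1 (G.1 (G.1 (pt 0 0 1))) = pt ((refl Q a).1 ((refl Q a).1 w + w) + w)
      (polar Q w ((refl Q a).1 w) + polar Q w ((refl Q a).1 w + w) + Q w) 1 := by
    rw [g2, hGf, one_smul, mul_one, add_comm ((refl Q a).1 w) w, hfix]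
  rw [Finset.sum_range_succ, Finset.sum_range_succ, Finset.sum_range_succ, Finset.sum_range_one] at h1
  rw [pow_zero, pow_one, show (G ^ 2).1 (pt 0 0 1) = G.1 (G.1 (pt 0 0 1)) from rfl,
    show (G ^ 3).1 (pt 0 0 1) = G.1 (G.1 (G.1 (pt 0 0 1))) from rfl, g3, g2, g1] at h1
  have h2 : polar Q w ((refl Q a).1 w) = 0 := by
    simp [pt] at h1
    linear_combination h1 - (2 * Q w + polar Q w ((refl Q a).1 w)) * CharTwo.two_eq_zero (R := F)
  rw [refl_apply, sub_eq_add_neg, polar_add_right, polar_self', CharTwo.two_eq_zero,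
    zero_mul, zero_add, polar_neg_right, polar_smul_r', neg_eq_zero, mul_eq_zero, polar_comm _ w a] at h2
  rcases h2 with h2 | h2
  · exact mul_ne_zero (inv_ne_zero ha) hw h2
  · exact hw h2

theorem goElem_two_pow (b : Bool) :
    GOElem F 1 (sgn b) 2 ∧ GOElem F 2 (sgn b) 4 ∧ GOElem F 3 (sgn b) 8 := by
  refine ⟨?_, ?_, ?_⟩
  · obtain ⟨α, i₁, i₂, Q, hnd, hs, a, w, ha, hw⟩ := exists_plane (F := F) b
    exact ⟨α, i₁, i₂, Q, hnd, hs, refl Q a, (refl_two ha hw).1⟩
  · obtain ⟨α, i₁, i₂, Q, hnd, hs, G, -, hG, -⟩ := exists_four (F := F) b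
    exact ⟨α, i₁, i₂, Q, hnd, hs, G, hG⟩
  · obtain ⟨α, i₁, i₂, Q, hnd, hs, G, f, hG, hf⟩ := exists_four (F := F) b
    obtain ⟨G', hG', -⟩ := exists_step hnd G (k := 2) (orderOf_dvd_iff_pow_eq_one.1 (by rw [hG]; norm_num)) f
      (by norm_num; exact hf)
    have hsum := hs.add (plusForm_hasSign (F := F) 1)
    rw [mul_one] at hsum
    exact ⟨_, inferInstance, inferInstance, _, sumForm_nondeg hnd (plusForm_nondeg 1), hsum, G', by
      rw [hG']; norm_num⟩

theorem par_one {α : Type} [Fintype α] [DecidableEq α] {Q : QuadraticForm F (α → F)} {m : ℕ} {s : ℤ}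
    (hs : HasSign Q m s) : par (1 : orthGroup Q) = 0 := by
  rw [par, fixSpace_one, finrank_top, Module.finrank_fintype_fun_eq_card, hs.1, ZMod.natCast_eq_zero_iff_even]
  exact even_two_mul m

theorem affElem_two_pow (b : Bool) : AffElem F 1 (sgn b) 0 ∧ AffElem F 2 (sgn b) 1 ∧ AffElem F 3 (sgn b) 2 := by
  obtain ⟨β, j₁, j₂, P, pnd, ps, c, u, hc, hu⟩ := exists_plane (F := F) false
  obtain ⟨cord, cne, -⟩ := refl_two hc hu
  have hpc : par (refl P c) = 1 := by
    have := par_refl_mul pnd hc 1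
    rwa [mul_one, par_one ps, zero_add] at this
  refine ⟨?_, ?_, ?_⟩
  · obtain ⟨α, i₁, i₂, Q, hnd, hs, a, w, ha, hw⟩ := exists_plane (F := F) b
    refine ⟨α, i₁, i₂, Q, hnd, hs, 1, a, by simp, par_one hs, ?_⟩
    simpa using fun h : a = 0 => ha (by rw [h, QuadraticMap.map_zero])
  · obtain ⟨α, i₁, i₂, Q, hnd, hs, a, w, ha, hw⟩ := exists_plane (F := F) b
    obtain ⟨aord, ane, -⟩ := refl_two ha hw
    obtain ⟨J, hJi, hJ⟩ := exists_pairHom Q P
    have hsum := hs.add ps
    rw [show sgn false = (1 : ℤ) from rfl, mul_one] at hsum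
    refine ⟨α ⊕ β, inferInstance, inferInstance, _, sumForm_nondeg hnd pnd, hsum, J (refl Q a, refl P c),
      Sum.elim w 0, ?_, ?_, ?_⟩
    · rw [orderOf_injective J hJi, Prod.orderOf, aord, cord]; rfl
    · rw [fixSpace_pair J hJ, hpc]
      have := par_refl_mul hnd ha 1
      rw [mul_one, par_one hs, zero_add] at this
      rw [this]; rfl
    · intro h0
      apply ane
      rw [pow_one, Finset.sum_range_succ, Finset.sum_range_one, pow_zero, pow_one, hJ] at h0
      have := congrArg (· ∘ Sum.inl) h0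
      simpa [funext_iff] using this
  · obtain ⟨α, i₁, i₂, Q, hnd, hs, G, f, hG, hf⟩ := exists_four (F := F) b
    obtain ⟨J, hJi, hJ⟩ := exists_pairHom Q P
    have hsum := hs.add ps
    rw [show sgn false = (1 : ℤ) from rfl, mul_one] at hsum
    obtain ⟨ε, hε, hpar⟩ : ∃ ε : orthGroup P, orderOf ε ∣ 2 ∧ par G + par ε = 0 := by
      rcases (show ∀ x : ZMod 2, x = 0 ∨ x = 1 by decide) (par G) with h | h
      · exact ⟨1, by simp, by rw [h, par_one ps, add_zero]⟩
      · exact ⟨refl P c, by rw [cord], by rw [h, hpc]; rfl⟩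
    refine ⟨α ⊕ β, inferInstance, inferInstance, _, sumForm_nondeg hnd pnd, hsum, J (G, ε),
      Sum.elim f 0, ?_, ?_, ?_⟩
    · rw [orderOf_injective J hJi, Prod.orderOf, hG]
      exact Nat.lcm_eq_left (hε.trans (by norm_num))
    · rw [fixSpace_pair J hJ]; exact hpar
    · intro h0
      apply hf
      rw [show (2 : ℕ) ^ 2 = 4 from rfl, Finset.sum_congr rfl fun i _ => pair_pow_apply J hJ (G, ε) i _] at h0
      funext i
      have h3 := congrFun h0 (Sum.inl i)
      simpa [Finset.sum_apply] using h3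

/-- Odd order and transport into the standard space. -/
theorem exists_in_minus {ζ : F} (hζ : ∀ t : F, t ^ 2 + t + ζ ≠ 0) {n : ℕ} (h : GOElem F 4 (-1) n) :
    ∃ g : orthGroup (minusForm F 3 1 ζ), orderOf g = n := by
  obtain ⟨α, i₁, i₂, Q, hnd, hs, g, hg⟩ := h
  obtain ⟨e, he⟩ := exists_iso_minus hζ hnd hs
  exact ⟨orthGroupCongr e he g, by rw [MulEquiv.orderOf_eq]; exact hg⟩

section Top

variable {ζ : F} (hζ : ∀ t : F, t ^ 2 + t + ζ ≠ 0)
include hζ

theorem par_mul_top (x y : orthGroup (minusForm F 3 1 ζ)) : par (x * y) = par x + par y := by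
  have hnd := minusForm_nondeg (F := F) 3 1 ζ (anisotropic_of_no_root hζ)
  have hV : finrank F ((Fin 3 ⊕ Fin 3) ⊕ Fin 2 → F) = 8 := by simp
  refine par_mul hnd (hV ▸ ⟨4, rfl⟩) ?_ y
  rw [reflGroup_eq_top hnd (good_of (Or.inr (by rw [hV]; norm_num)))]
  trivial

/-- The index two subgroup. -/
noncomputable def parHom : orthGroup (minusForm F 3 1 ζ) →* Multiplicative (ZMod 2) :=
  MonoidHom.mk' (fun g => Multiplicative.ofAdd (par g)) fun x y => by
    rw [par_mul_top hζ, ofAdd_add]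

theorem par_eq_zero_of_odd {g : orthGroup (minusForm F 3 1 ζ)} (hg : Odd (orderOf g)) : par g = 0 := by
  have h1 : orderOf (parHom hζ g) ∣ orderOf g := orderOf_map_dvd _ g
  have h2 : orderOf (parHom hζ g) ∣ 2 := orderOf_dvd_of_pow_eq_one (by
    rw [pow_two]
    exact Multiplicative.toAdd.injective (by simp [CharTwo.add_self_eq_zero]))
  have h3 := orderOf_eq_one_iff.1 (Nat.eq_one_of_dvd_one ((Nat.coprime_two_right.2 hg) ▸ Nat.dvd_gcd h1 h2))
  exact congrArg Multiplicative.toAdd h3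

/-- A torus part and a `2`-power part give an element of even parity with non-zero norm map. -/
theorem exists_aff_elem {m m' k L : ℕ} {s t : ℤ} (hL : Odd L) (h₁ : GOElem F m s L) (h₂ : AffElem F m' t k)
    (hm : m + m' = 4) (hst : s * t = -1) :
    ∃ (g : orthGroup (minusForm F 3 1 ζ)) (v : (Fin 3 ⊕ Fin 3) ⊕ Fin 2 → F),
      orderOf g = L * 2 ^ k ∧ par g = 0 ∧ (∑ i ∈ Finset.range (L * 2 ^ k), (g ^ i).1 v) ≠ 0 := by
  obtain ⟨α, i₁, i₂, Q₁, n₁, s₁, τ, hτ⟩ := h₁
  obtain ⟨β, j₁, j₂, Q₂, n₂, s₂, ρ, v, hρ, hpar, hv⟩ := h₂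
  obtain ⟨J, hJi, hJ⟩ := exists_pairHom Q₁ Q₂
  obtain ⟨e, he⟩ := exists_iso_minus hζ (sumForm_nondeg n₁ n₂) (hst ▸ hm ▸ s₁.add s₂)
  let Φ := orthGroupCongr (Q := sumForm Q₁ Q₂) e he
  refine ⟨Φ (J (τ, ρ)), e (Sum.elim 0 v), ?_, ?_, ?_⟩
  · rw [MulEquiv.orderOf_eq, orderOf_injective J hJi, Prod.orderOf, hτ, hρ]
    exact (Nat.Coprime.pow_right k (Nat.coprime_two_right.2 hL)).lcm_eq_mul
  · rw [show (τ, ρ) = (τ, (1 : orthGroup Q₂)) * ((1 : orthGroup Q₁), ρ) by simp, map_mul, map_mul,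
      par_mul_top hζ, par_eq_zero_of_odd hζ, zero_add]
    · show par (Φ (J (1, ρ))) = 0
      rw [par, finrank_fixSpace_congr e he, ← par, fixSpace_pair J hJ, par_one s₁, hpar, add_zero]
    · rw [MulEquiv.orderOf_eq, orderOf_injective J hJi, Prod.orderOf, orderOf_one, Nat.lcm_one_right, hτ]
      exact hL
  · intro h0
    apply hv
    have happ : ∀ i, ((Φ (J (τ, ρ))) ^ i).1 (e (Sum.elim 0 v)) = e (Sum.elim 0 ((ρ ^ i).1 v)) := by
      intro i
      rw [← map_pow]
      show e (((J (τ, ρ)) ^ i).1 (e.symm (e (Sum.elim 0 v)))) = _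
      rw [e.symm_apply_apply, pair_pow_apply J hJ, Sum.elim_comp_inl, Sum.elim_comp_inr, map_zero]
    rw [Finset.sum_congr rfl fun i _ => happ i, ← map_sum, e.map_eq_zero_iff] at h0
    have h1 : ∑ i ∈ Finset.range (L * 2 ^ k), (ρ ^ i).1 v = 0 := by
      have h2 := congrArg (· ∘ Sum.inr) h0
      funext j
      have h3 := congrFun h2 j
      simpa [Finset.sum_apply] using h3
    have hper : ∀ L' : ℕ, ∑ i ∈ Finset.range (L' * 2 ^ k), (ρ ^ i).1 v =
        (L' : F) • ∑ i ∈ Finset.range (2 ^ k), (ρ ^ i).1 v := by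
      intro L'
      induction L' with
      | zero => simp
      | succ L' ih =>
        rw [Nat.succ_mul, Finset.sum_range_add, ih, Nat.cast_succ, add_smul, one_smul]
        congr 1
        refine Finset.sum_congr rfl fun i _ => ?_
        rw [pow_add, mul_comm L', pow_mul, ← hρ, pow_orderOf_eq_one, one_pow, one_mul]
    rw [hper, smul_eq_zero] at h1
    refine h1.resolve_left ?_
    obtain ⟨c, rfl⟩ := hL
    simp [CharTwo.two_eq_zero]

end Top

end CfsgLib.Recognition.SpEight
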