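import Mathlib
import Cfsg.Agent.Lib.Recognition.SpEight.Targets
import Cfsg.Agent.Lib.Recognition.SpFourSpectrum

/-!
Orbits of `x ↦ x ^ q`, `x ↦ x⁻¹` on the roots of a self-reciprocal polynomial, and the bound on
the order of a matrix with such a characteristic polynomial.
-/

set_option autoImplicit false

namespace CfsgLib.Recognition.SpEight

open Polynomial

variable {K : Type*} [Field K] [CharP K 2] {q : ℕ}

theorem ne_inv_self {x : K} (h0 : x ≠ 0) (h1 : x ≠ 1) : x ≠ x⁻¹ := by
  intro h
  apply h1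
  have h2 : x * x = 1 := by
    nth_rewrite 2 [h]
    exact mul_inv_cancel₀ h0
  rcases mul_self_eq_one_iff.1 h2 with h3 | h3
  · exact h3
  · rw [h3, CharTwo.neg_eq]

open _root_.Classical in
/-- The roots come in orbits described by `(degree, multiplicity, sign)`. -/
theorem exists_decomp (hinj : Function.Injective fun x : K => x ^ q) (hq : 1 ≤ q) (R : Multiset K)
    (hφ : R.map (fun x => x ^ q) = R) (hinv : R.map (fun x => x⁻¹) = R) (h1 : (1 : K) ∉ R) (h0 : (0 : K) ∉ R) :
    ∃ l : Multiset (ℕ × ℕ × Bool), Pos l ∧ Multiset.card R = 2 * weight l ∧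
      ∀ x ∈ R, ∃ e ∈ l, R.count x ≤ e.2.1 ∧ x ^ tor q e.1 e.2.2 = 1 := by
  induction hn : Multiset.card R using Nat.strong_induction_on generalizing R with
  | _ n ih =>
  subst hn
  rcases Multiset.empty_or_exists_mem R with rfl | ⟨x, hx⟩
  · exact ⟨0, fun e he => absurd he (Multiset.notMem_zero e), by simp [weight],
      fun y hy => absurd hy (Multiset.notMem_zero y)⟩
  have hmap : ∀ y ∈ R, y ^ q ∈ R := fun y hy => hφ ▸ Multiset.mem_map_of_mem _ hy
  have hmapi : ∀ y ∈ R, y⁻¹ ∈ R := fun y hy => hinv ▸ Multiset.mem_map_of_mem _ hy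
  have hφi : ∀ i : ℕ, Function.Injective fun y : K => y ^ q ^ i := by
    intro i
    induction i with
    | zero => intro a b h; simpa using h
    | succ i ihh =>
      intro a b h
      simp only [pow_succ, pow_mul] at h
      exact ihh (hinj h)
  have hiter : ∀ i, x ^ q ^ i ∈ R := by
    intro i
    induction i with
    | zero => simpa using hx
    | succ i ihh => rw [pow_succ, pow_mul]; exact hmap _ ihh
  have hper : ∃ d, 0 < d ∧ (x ^ q ^ d = x ∨ x ^ q ^ d = x⁻¹) := by
    obtain ⟨i, j, hne, hij⟩ := Finite.exists_ne_map_eq_of_infinite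
      (fun i : ℕ => (⟨x ^ q ^ i, Multiset.mem_toFinset.2 (hiter i)⟩ : R.toFinset))
    have hij' : x ^ q ^ i = x ^ q ^ j := congrArg Subtype.val hij
    clear hij
    wlog hlt : i < j generalizing i j
    · exact this j i hne.symm hij'.symm (by omega)
    refine ⟨j - i, by omega, Or.inl (hφi i ?_)⟩
    show (x ^ q ^ (j - i)) ^ q ^ i = x ^ q ^ i
    rw [hij', ← pow_mul, ← pow_add, Nat.sub_add_cancel hlt.le]
  let d := Nat.find hper
  obtain ⟨hd0, hd⟩ : 0 < d ∧ (x ^ q ^ d = x ∨ x ^ q ^ d = x⁻¹) := Nat.find_spec hper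
  have hmin : ∀ i, 0 < i → i < d → x ^ q ^ i ≠ x ∧ x ^ q ^ i ≠ x⁻¹ := fun i hi hid =>
    not_or.1 fun h => Nat.find_min hper hid ⟨hi, h⟩
  have hx0 : x ≠ 0 := fun h => h0 (h ▸ hx)
  have hx1 : x ≠ 1 := fun h => h1 (h ▸ hx)
  -- the orbit
  let pt : ℕ × Bool → K := fun p => if p.2 then (x ^ q ^ p.1)⁻¹ else x ^ q ^ p.1
  set O : Finset K := (Finset.range d ×ˢ Finset.univ).image pt with hO
  have hmemO : ∀ i, i < d → x ^ q ^ i ∈ O ∧ (x ^ q ^ i)⁻¹ ∈ O := fun i hi =>
    ⟨Finset.mem_image.2 ⟨(i, false), by simp [hi], rfl⟩, Finset.mem_image.2 ⟨(i, true), by simp [hi], rfl⟩⟩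
  have hOR : ∀ y ∈ O, y ∈ R := by
    intro y hy
    obtain ⟨⟨i, b⟩, -, rfl⟩ := Finset.mem_image.1 hy
    cases b
    · exact hiter i
    · exact hmapi _ (hiter i)
  have hcardO : O.card = 2 * d := by
    rw [hO, Finset.card_image_of_injOn, Finset.card_product, Finset.card_range, Finset.card_univ,
      Fintype.card_bool, mul_comm]
    have key : ∀ i j, i < d → j < d → i ≤ j → ∀ a b : Bool, pt (i, a) = pt (j, b) → i = j ∧ a = b := by
      intro i j hi hj hle a b hab
      have hsplit : x ^ q ^ j = (x ^ q ^ (j - i)) ^ q ^ i := by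
        rw [← pow_mul, ← pow_add, Nat.sub_add_cancel hle]
      by_cases hab' : a = b
      · subst hab'
        have he : x ^ q ^ i = x ^ q ^ j := by
          cases a
          · simpa [pt] using hab
          · simpa [pt] using hab
        rw [hsplit] at he
        have h2 : x ^ q ^ (j - i) = x := (hφi i he).symm
        refine ⟨?_, rfl⟩
        by_contra hne
        exact (hmin (j - i) (by omega) (by omega)).1 h2
      · have he : (x⁻¹) ^ q ^ i = x ^ q ^ j := by
          cases a <;> cases b <;> simp_all [pt]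
        rw [hsplit] at he
        have h2 : x ^ q ^ (j - i) = x⁻¹ := (hφi i he).symm
        exfalso
        rcases Nat.eq_zero_or_pos (j - i) with h3 | h3
        · rw [h3, pow_zero, pow_one] at h2
          exact ne_inv_self hx0 hx1 h2
        · exact (hmin (j - i) h3 (by omega)).2 h2
    intro p hp r hr hpr
    simp only [Finset.coe_product, Set.mem_prod, Finset.coe_range, Set.mem_Iio] at hp hr
    obtain ⟨i, a⟩ := p
    obtain ⟨j, b⟩ := r
    rcases le_total i j with hle | hle
    · obtain ⟨rfl, rfl⟩ := key i j hp.1 hr.1 hle a b hpr; rfl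
    · obtain ⟨rfl, rfl⟩ := key j i hr.1 hp.1 hle b a hpr.symm; rfl
  have hOφ : ∀ y, y ^ q ∈ O ↔ y ∈ O := by
    have himg : O.image (fun y => y ^ q) = O := by
      refine Finset.eq_of_subset_of_card_le ?_ (by rw [Finset.card_image_of_injective _ hinj])
      intro y hy
      obtain ⟨z, hz, rfl⟩ := Finset.mem_image.1 hy
      obtain ⟨⟨i, b⟩, hib, rfl⟩ := Finset.mem_image.1 hz
      have hi : i < d := by simpa using hib
      have hval : (x ^ q ^ i) ^ q = x ^ q ^ (i + 1) := by rw [← pow_mul, ← pow_succ]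
      have hnext : x ^ q ^ (i + 1) ∈ O ∧ (x ^ q ^ (i + 1))⁻¹ ∈ O := by
        rcases (show i + 1 < d ∨ i + 1 = d by omega) with h | h
        · exact hmemO _ h
        · obtain ⟨ha, hb⟩ := hmemO 0 hd0
          rw [pow_zero, pow_one] at ha hb
          rw [h]
          rcases hd with hd | hd <;> rw [hd]
          · exact ⟨ha, hb⟩
          · exact ⟨hb, by rwa [inv_inv]⟩
      cases b
      · simpa [pt, hval] using hnext.1
      · simpa [pt, hval] using hnext.2
    intro y
    refine ⟨fun hy => ?_, fun hy => himg ▸ Finset.mem_image_of_mem _ hy⟩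
    rw [← himg] at hy
    obtain ⟨z, hz, hzy⟩ := Finset.mem_image.1 hy
    exact hinj hzy ▸ hz
  have hOi' : ∀ y ∈ O, y⁻¹ ∈ O := by
    intro y hy
    obtain ⟨⟨i, b⟩, hib, rfl⟩ := Finset.mem_image.1 hy
    have hi : i < d := by simpa using hib
    cases b
    · simpa [pt] using (hmemO i hi).2
    · simpa [pt] using (hmemO i hi).1
  have hOi : ∀ y, y⁻¹ ∈ O ↔ y ∈ O := fun y => ⟨fun h => by simpa using hOi' _ h, hOi' y⟩
  have hcφ : ∀ y, R.count (y ^ q) = R.count y := by
    intro y
    conv_lhs => rw [← hφ]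
    exact Multiset.count_map_eq_count' (fun z : K => z ^ q) R hinj y
  have hci : ∀ y, R.count y⁻¹ = R.count y := by
    intro y
    conv_lhs => rw [← hinv]
    exact Multiset.count_map_eq_count' (fun z : K => z⁻¹) R inv_injective y
  set m := R.count x with hm
  have hcO : ∀ y ∈ O, R.count y = m := by
    have hci' : ∀ i, R.count (x ^ q ^ i) = m := by
      intro i
      induction i with
      | zero => simp [hm]
      | succ i ihh => rw [pow_succ, pow_mul, hcφ, ihh]
    intro y hy
    obtain ⟨⟨i, b⟩, -, rfl⟩ := Finset.mem_image.1 hy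
    cases b
    · exact hci' i
    · show R.count (x ^ q ^ i)⁻¹ = m
      rw [hci, hci']
  set R' := R.filter (fun y => y ∉ O) with hR'
  have hsum : Multiset.card R = Multiset.card R' + 2 * (d * m) := by
    have hA : Multiset.card (R.filter (fun y => y ∈ O)) = O.card * m := by
      rw [← Multiset.sum_count_eq_card (s := O) (fun a ha => (Multiset.mem_filter.1 ha).2),
        Finset.sum_congr rfl fun y hy => by rw [Multiset.count_filter_of_pos hy, hcO y hy],
        Finset.sum_const, smul_eq_mul]
    have hB := congrArg Multiset.card (Multiset.filter_add_not (fun y => y ∈ O) R)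
    rw [Multiset.card_add, hA, hcardO, mul_assoc] at hB
    rw [add_comm, hR']
    exact hB.symm
  have hm0 : 0 < m := Multiset.count_pos.2 hx
  have hφ' : R'.map (fun y => y ^ q) = R' := by
    conv_rhs => rw [hR', ← hφ, Multiset.filter_map]
    congr 1
    exact Multiset.filter_congr fun y _ => by simp [hOφ]
  have hinv' : R'.map (fun y => y⁻¹) = R' := by
    conv_rhs => rw [hR', ← hinv, Multiset.filter_map]
    congr 1
    exact Multiset.filter_congr fun y _ => by simp [hOi]
  obtain ⟨l, hl, hcard, hall⟩ := ih (Multiset.card R')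
    (by rw [hsum]; exact Nat.lt_add_of_pos_right (by positivity)) R' hφ' hinv'
    (fun h => h1 (Multiset.mem_of_mem_filter h)) (fun h => h0 (Multiset.mem_of_mem_filter h)) rfl
  have hdq : 1 ≤ q ^ d := Nat.one_le_pow _ _ hq
  obtain ⟨b, hb⟩ : ∃ b, ∀ y ∈ O, y ^ tor q d b = 1 := by
    obtain ⟨b, hxb⟩ : ∃ b, x ^ tor q d b = 1 := by
      rcases hd with hd | hd
      · refine ⟨false, ?_⟩
        exact (SpFourSpectrum.pow_inv_cases hx0 hdq).1 hd
      · refine ⟨true, ?_⟩
        exact (SpFourSpectrum.pow_inv_cases hx0 hdq).2 hd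
    refine ⟨b, fun y hy => ?_⟩
    obtain ⟨⟨i, s⟩, -, rfl⟩ := Finset.mem_image.1 hy
    have : (x ^ q ^ i) ^ tor q d b = 1 := by rw [← pow_mul, mul_comm, pow_mul, hxb, one_pow]
    cases s
    · exact this
    · show ((x ^ q ^ i)⁻¹) ^ tor q d b = 1
      rw [inv_pow, this, inv_one]
  refine ⟨(d, m, b) ::ₘ l, ?_, ?_, ?_⟩
  · intro e he
    rcases Multiset.mem_cons.1 he with rfl | he
    · exact ⟨hd0, hm0⟩
    · exact hl e he
  · rw [weight_cons, hsum, hcard]; ring
  · intro y hy
    by_cases hyO : y ∈ O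
    · exact ⟨_, Multiset.mem_cons_self _ _, (hcO y hyO).le, hb y hyO⟩
    · obtain ⟨e, he, he1, he2⟩ := hall y (Multiset.mem_filter.2 ⟨hy, hyO⟩)
      refine ⟨e, Multiset.mem_cons_of_mem he, ?_, he2⟩
      rwa [← Multiset.count_filter_of_pos (p := fun y => y ∉ O) hyO]

variable {F : Type*} [Field F] [Fintype F] [CharP F 2]

/-- A matrix with self-reciprocal characteristic polynomial of degree eight has order dividing one
of the targets, with the multiplicity `r` of the eigenvalue one controlling the `2`-part. -/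
theorem exists_exponent {n : Type*} [Fintype n] [DecidableEq n] (A : Matrix n n F)
    (hdeg : Fintype.card n = 8) (hrev : A.charpoly.reverse = A.charpoly) :
    ∃ L k, Odd L ∧ A.charpoly.rootMultiplicity 1 ≤ 2 ^ k ∧ Good (Fintype.card F) (L * 2 ^ k) ∧
      Even (A.charpoly.rootMultiplicity 1) ∧ A ^ (L * 2 ^ k) = 1 := by
  classical
  set q := Fintype.card F with hqdef
  let K := AlgebraicClosure F
  let ι : F →+* K := algebraMap F K
  haveI : CharP K 2 := charP_of_injective_ringHom ι.injective 2
  obtain ⟨e, -, hqe⟩ := FiniteField.card F 2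
  have hq : Even q := by rw [hqdef, hqe]; exact Nat.even_pow.2 ⟨even_two, e.ne_zero⟩
  have hq1 : 1 ≤ q := Fintype.card_pos
  have hinj : Function.Injective fun x : K => x ^ q := by
    intro x y h
    simp only [hqdef, hqe] at h
    exact (frobenius_inj K 2).iterate (e : ℕ) (by rw [iterate_frobenius, iterate_frobenius]; exact h)
  set f := A.charpoly with hf
  have hmon : (f.map ι).Monic := (Matrix.charpoly_monic A).map _
  have hsplit : (f.map ι).Splits := IsAlgClosed.splits _
  set R := (f.map ι).roots with hR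
  have hprod : f.map ι = (R.map fun x => X - C x).prod := hsplit.eq_prod_roots_of_monic hmon
  have hcard : Multiset.card R = 8 := by
    rw [hR, ← hsplit.natDegree_eq_card_roots, Polynomial.natDegree_map, hf, Matrix.charpoly_natDegree_eq_dim, hdeg]
  have hc0 : f.coeff 0 = 1 := by
    rw [← hrev, Polynomial.coeff_zero_reverse]
    exact Matrix.charpoly_monic A
  have h0 : (0 : K) ∉ R := by
    intro h
    rw [hR, Polynomial.mem_roots hmon.ne_zero, Polynomial.IsRoot.def, ← Polynomial.coeff_zero_eq_eval_zero,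
      Polynomial.coeff_map, hc0, map_one] at h
    exact one_ne_zero h
  have hφ : R.map (fun x => x ^ q) = R := by
    have hF : (f.map ι).map (iterateFrobenius K 2 e) = f.map ι := by
      rw [Polynomial.map_map]
      congr 1
      refine RingHom.ext fun a => ?_
      show iterateFrobenius K 2 e (ι a) = ι a
      rw [iterateFrobenius_def, ← map_pow, ← hqe, FiniteField.pow_card]
    have h1 := Polynomial.roots_map_of_injective_of_card_eq_natDegree (p := f.map ι)
      (iterateFrobenius_inj K 2 e) (hsplit.natDegree_eq_card_roots).symm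
    rw [hF] at h1
    conv_rhs => rw [hR, ← h1]
    congr 1
    funext x
    rw [iterateFrobenius_def, hqdef, hqe]
  have hinv : R.map (fun x => x⁻¹) = R := by
    have hlin : ∀ x ∈ R, (X - C x).reverse = C (-x) * (X - C x⁻¹) := by
      intro x hx
      have hx0 : x ≠ 0 := fun h => h0 (h ▸ hx)
      rw [Polynomial.reverse, Polynomial.natDegree_X_sub_C, Polynomial.reflect_sub, Polynomial.reflect_C,
        ← pow_one (X : K[X]), Polynomial.reflect_monomial, Polynomial.revAt_le le_rfl, Nat.sub_self, pow_zero,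
        pow_one, mul_sub, ← map_mul, neg_mul, mul_inv_cancel₀ hx0, map_neg, map_neg, map_one]
      ring
    have hrevK : (f.map ι).reverse = f.map ι := by
      rw [Polynomial.reverse, Polynomial.natDegree_map, Polynomial.reflect_map]
      exact congrArg _ hrev
    have hall : ∀ S : Multiset K, (∀ x ∈ S, x ∈ R) → (S.map fun x => X - C x).prod.reverse =
        C (S.map fun x => -x).prod * ((S.map fun x => x⁻¹).map fun x => X - C x).prod := by
      intro S hS
      induction S using Multiset.induction with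
      | empty => simpa using Polynomial.reverse_C (1 : K)
      | cons a S ihS =>
        simp only [Multiset.map_cons, Multiset.prod_cons, Polynomial.reverse_mul_of_domain, map_mul]
        rw [hlin a (hS a (Multiset.mem_cons_self a S)),
          ihS fun x hx => hS x (Multiset.mem_cons_of_mem hx)]
        ring
    have hne : (R.map fun x => -x).prod ≠ 0 := by
      exact Multiset.prod_ne_zero (by simp [h0])
    have h2 := congrArg Polynomial.roots (hall R fun x hx => hx)
    rw [← hprod, hrevK, Polynomial.roots_C_mul _ hne, Polynomial.roots_multiset_prod_X_sub_C] at h2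
    exact h2.symm
  set r := R.count 1 with hr
  have hrmult : f.rootMultiplicity 1 = r := by
    rw [hr, hR, Polynomial.count_roots, ← map_one ι, ← Polynomial.eq_rootMultiplicity_map ι.injective]
  set R0 := R.filter (fun x => x ≠ 1) with hR0
  have hφ0 : R0.map (fun y => y ^ q) = R0 := by
    conv_rhs => rw [hR0, ← hφ, Multiset.filter_map]
    congr 1
    refine Multiset.filter_congr fun y _ => ?_
    exact (hinj.ne_iff' (one_pow q)).symm
  have hinv0 : R0.map (fun y => y⁻¹) = R0 := by
    conv_rhs => rw [hR0, ← hinv, Multiset.filter_map]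
    congr 1
    exact Multiset.filter_congr fun y _ => by simp
  obtain ⟨l, hl, hlcard, hall⟩ := exists_decomp hinj hq1 R0 hφ0 hinv0 (by simp [hR0])
    (fun h => h0 (Multiset.mem_of_mem_filter h))
  have hw : 2 * weight l + r = 8 := by
    have h8 := congrArg Multiset.card (Multiset.filter_add_not (fun x : K => x ≠ 1) R)
    rw [Multiset.card_add, ← hR0, hlcard, hcard] at h8
    have : Multiset.card (R.filter fun x => ¬ x ≠ 1) = r := by
      rw [hr, Multiset.count_eq_card_filter_eq]
      congr 1
      exact Multiset.filter_congr fun y _ => by simp [eq_comm]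
    omega
  obtain ⟨L, k, hL, hrk, hgood, hdiv⟩ := exists_bound hq (by omega) hl hw
  refine ⟨L, k, hL, hrmult ▸ hrk, hgood, hrmult ▸ ⟨4 - weight l, by omega⟩, ?_⟩
  rw [← one_smul F (1 : Matrix n n F)]
  refine SpFourSpectrum.pow_eq_of_dvd ι A _ 1 ?_
  rw [map_one, map_one]
  haveI : CharP K[X] 2 := inferInstance
  have hpow : (X : K[X]) ^ (L * 2 ^ k) - 1 = (X ^ L - 1) ^ 2 ^ k := by
    rw [sub_pow_char_pow, one_pow, ← pow_mul]
  rw [← hf, hpow, hprod]
  have hp0 : ((X : K[X]) ^ L - 1) ^ 2 ^ k ≠ 0 :=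
    pow_ne_zero _ (by simpa using (Polynomial.monic_X_pow_sub_C (1 : K) hL.pos.ne').ne_zero)
  refine (Multiset.prod_dvd_prod_of_le (Multiset.map_le_map ?_)).trans
    (Polynomial.prod_multiset_X_sub_C_dvd _)
  rw [Multiset.le_iff_count]
  intro x
  rw [Polynomial.roots_pow, Multiset.count_nsmul]
  by_cases hxR : x ∈ R
  swap
  · rw [Multiset.count_eq_zero.2 hxR]; exact Nat.zero_le _
  obtain ⟨hxm, hxL⟩ : R.count x ≤ 2 ^ k ∧ x ^ L = 1 := by
    by_cases hx1 : x = 1
    · subst hx1; exact ⟨hrk, one_pow L⟩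
    · obtain ⟨d, hd, hd1, hd2⟩ := hall x (Multiset.mem_filter.2 ⟨hxR, hx1⟩)
      rw [hR0, Multiset.count_filter_of_pos (p := fun y : K => y ≠ 1) hx1] at hd1
      obtain ⟨⟨c, hc⟩, hk⟩ := hdiv d hd
      exact ⟨hd1.trans hk, by rw [hc, pow_mul, hd2, one_pow]⟩
  refine hxm.trans (Nat.le_mul_of_pos_right _ (Multiset.count_pos.2 ?_))
  rw [Polynomial.mem_roots (by simpa using (Polynomial.monic_X_pow_sub_C (1 : K) hL.pos.ne').ne_zero)]
  simp [hxL]

end CfsgLib.Recognition.SpEight
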