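import Mathlib
import Cfsg.Agent.Lib.Recognition.SpEight.Roots
import Cfsg.Agent.Lib.Recognition.SpEight.Elements
import Cfsg.Agent.Lib.Recognition.AffineGroup
import Cfsg.Agent.Lib.Classical.SympMatrix
import Cfsg.Agent.Lib.Orth.Bridge

/-!
The element orders of `Sp₈(q)`, `q` even, of the orthogonal group of minus type in dimension eight, and
of the natural module extended by the index two subgroup of the latter.
-/

set_option autoImplicit false

namespace CfsgLib.Recognition.SpEight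

open QuadraticMap Module CfsgLib.Orth CfsgLib.Classical Matrix

variable {F : Type*} [Field F] [Fintype F] [CharP F 2]

theorem exists_zeta : ∃ ζ : F, ∀ t : F, t ^ 2 + t + ζ ≠ 0 := by
  by_contra hall
  push Not at hall
  have hsurj : Function.Surjective fun t : F => t ^ 2 + t := fun ζ => by
    obtain ⟨t, ht⟩ := hall ζ
    exact ⟨t, CharTwo.add_eq_zero.1 ht⟩
  refine zero_ne_one ((Finite.injective_iff_surjective.2 hsurj) (a₁ := (0 : F)) (a₂ := 1) ?_)
  show (0 : F) ^ 2 + 0 = 1 ^ 2 + 1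
  rw [one_pow, CharTwo.add_self_eq_zero]
  simp

/-- The sets of element orders. -/
def spectrum (F : Type*) [Fintype F] : Set ℕ := {d | Good (Fintype.card F) d}

omit [Fintype F] [CharP F 2] in
theorem range_eq {G : Type*} [Group G] [Finite G] {q : ℕ} (h1 : ∀ g : G, Good q (orderOf g))
    (h2 : ∀ t ∈ targets q, ∃ g : G, t ∣ orderOf g) : Set.range (orderOf : G → ℕ) = {d | Good q d} := by
  ext d
  constructor
  · rintro ⟨g, rfl⟩; exact h1 g
  · rintro ⟨t, ht, hd⟩
    obtain ⟨g, hg⟩ := h2 t ht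
    exact ⟨g ^ (orderOf g / d), orderOf_pow_orderOf_div (orderOf_pos g).ne' (hd.trans hg)⟩

section Upper

local notation "Sp8" => Matrix.symplecticGroup (Fin 4) F

omit [Fintype F] [CharP F 2] in
theorem charpoly_reverse_sp {m : ℕ} (A : Matrix.symplecticGroup (Fin m) F) :
    (A : Matrix (Fin m ⊕ Fin m) (Fin m ⊕ Fin m) F).charpoly.reverse =
      (A : Matrix (Fin m ⊕ Fin m) (Fin m ⊕ Fin m) F).charpoly := by
  have hdet : (A : Matrix (Fin m ⊕ Fin m) (Fin m ⊕ Fin m) F).det = 1 := SymplecticGroup.det_eq_one A.2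
  have hu : IsUnit (A : Matrix (Fin m ⊕ Fin m) (Fin m ⊕ Fin m) F) :=
    (Matrix.isUnit_iff_isUnit_det _).mpr (by rw [hdet]; exact isUnit_one)
  have h1 := Matrix.charpoly_inv _ hu
  rw [show Fintype.card (Fin m ⊕ Fin m) = m + m by simp, hdet, Ring.inverse_one, map_one, mul_one,
    Even.neg_one_pow (Even.add_self m), one_mul,
    ← Matrix.reverse_charpoly, SymplecticGroup.inv_eq_symplectic_inv _ A.2] at h1
  rw [← h1]
  obtain ⟨u, hu'⟩ := (Matrix.isUnit_iff_isUnit_det (Matrix.J (Fin m) F)).mpr (Matrix.isUnit_det_J _ _)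
  rw [← Matrix.J_inv, ← hu', Matrix.charpoly_units_conj', Matrix.charpoly_transpose]

theorem sp_bound (A : Sp8) : ∃ L k, Odd L ∧
    (A : Matrix (Fin 4 ⊕ Fin 4) (Fin 4 ⊕ Fin 4) F).charpoly.rootMultiplicity 1 ≤ 2 ^ k ∧
      Good (Fintype.card F) (L * 2 ^ k) ∧ A ^ (L * 2 ^ k) = 1 := by
  obtain ⟨L, k, hL, hr, hgood, -, hA⟩ := exists_exponent (A : Matrix (Fin 4 ⊕ Fin 4) (Fin 4 ⊕ Fin 4) F)
    (by simp) (charpoly_reverse_sp A)
  exact ⟨L, k, hL, hr, hgood, Subtype.ext (by rw [SubmonoidClass.coe_pow, hA]; rfl)⟩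

theorem sp_good (A : Sp8) : Good (Fintype.card F) (orderOf A) := by
  obtain ⟨L, k, -, -, hgood, hA⟩ := sp_bound A
  exact hgood.of_dvd (orderOf_dvd_of_pow_eq_one hA)

omit [Fintype F] in
/-- An eight-dimensional orthogonal group sits in the symplectic group, with the same characteristic polynomials. -/
theorem exists_toSp {ι : Type} [Fintype ι] [DecidableEq ι] {Q : QuadraticForm F (ι → F)}
    (hQ : (QuadraticMap.polarBilin Q).Nondegenerate) (hι : Fintype.card ι = 8) :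
    ∃ φ : orthGroup Q →* Sp8, Function.Injective φ ∧ ∀ g,
      ((φ g : Sp8) : Matrix (Fin 4 ⊕ Fin 4) (Fin 4 ⊕ Fin 4) F).charpoly = LinearMap.charpoly (g.1 : (ι → F) →ₗ[F] (ι → F)) := by
  classical
  have hA : (QuadraticMap.polarBilin Q).IsAlt := fun v => by
    rw [QuadraticMap.polarBilin_apply_apply, polar_self', CharTwo.two_eq_zero, zero_mul]
  obtain ⟨m, b₁, hb₁⟩ := exists_sympBasis hA hQ
  obtain ⟨m', b₂, hb₂⟩ := exists_sympBasis (sympBil_isAlt (F := F) 4) (sympBil_nondegenerate 4)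
  have e1 := Module.finrank_eq_card_basis b₁
  have e2 := Module.finrank_eq_card_basis b₂
  simp [hι] at e1 e2
  obtain rfl : m = 4 := by omega
  obtain rfl : m' = 4 := by omega
  let E := b₁.equiv b₂ (Equiv.refl _)
  let incl : orthGroup Q →* isomGroup (QuadraticMap.polarBilin Q) :=
    MonoidHom.mk' (fun g => ⟨g.1, fun x y => by
      rw [QuadraticMap.polarBilin_apply_apply, QuadraticMap.polarBilin_apply_apply]; exact polar_isom g x y⟩)
      (fun _ _ => rfl)
  let Ψ := (isomGroupCongr E (IsSympFamily.basisEquiv_mem hA (sympBil_isAlt 4) b₁ b₂ hb₁ hb₂)).trans (spEquiv 4).symm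
  refine ⟨Ψ.toMonoidHom.comp incl, Ψ.injective.comp fun g h e => Subtype.ext (congrArg (fun x : isomGroup _ => x.1) e :), fun g => ?_⟩
  have h1 : Matrix.toLin' ((Ψ (incl g) : Sp8) : Matrix (Fin 4 ⊕ Fin 4) (Fin 4 ⊕ Fin 4) F) =
      E.conj (g.1 : (ι → F) →ₗ[F] (ι → F)) := by
    refine LinearMap.ext fun x => ?_
    rw [Matrix.toLin'_apply, ← spEquiv_apply]
    simp only [Ψ, MulEquiv.trans_apply, MulEquiv.apply_symm_apply]
    rfl
  show ((Ψ (incl g) : Sp8) : Matrix (Fin 4 ⊕ Fin 4) (Fin 4 ⊕ Fin 4) F).charpoly = _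
  rw [← Matrix.charpoly_toLin', h1, LinearEquiv.charpoly_conj]

omit [Fintype F] in
/-- The centre is trivial in characteristic two. -/
theorem psp_range : Set.range (orderOf : Cfsg.PSp 4 F → ℕ) = Set.range (orderOf : Sp8 → ℕ) := by
  have hinj : Function.Injective (QuotientGroup.mk' (Subgroup.center Sp8)) := by
    rw [← MonoidHom.ker_eq_bot_iff, QuotientGroup.ker_mk', Subgroup.eq_bot_iff_forall]
    intro A hA
    refine Subtype.ext ?_
    rcases sp_center_eq 4 hA with h | h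
    · exact h
    · rw [h]
      ext i j
      exact CharTwo.neg_eq _
  ext n
  constructor
  · rintro ⟨x, rfl⟩
    obtain ⟨A, rfl⟩ := QuotientGroup.mk_surjective x
    exact ⟨A, (orderOf_injective _ hinj A).symm⟩
  · rintro ⟨A, rfl⟩
    exact ⟨QuotientGroup.mk A, orderOf_injective _ hinj A⟩

end Upper

section Lists

variable (F) in
/-- The decompositions realising the targets. -/
def RealisedAs (n : ℕ) : Prop :=
  (Odd n ∧ GOElem F 4 (-1) n) ∨ ∃ (m k L : ℕ) (b : Bool) (s : ℤ), Odd L ∧ 1 ≤ k ∧ k ≤ 3 ∧ m + k = 4 ∧ s * sgn b = -1 ∧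
    GOElem F m s L ∧ n = L * 2 ^ k

theorem coprime_tor {q d e : ℕ} (hq : Even q) (hq0 : q ≠ 0) (he : 1 ≤ e)
    (h : (q ^ d - 1 ∣ q ^ e - 1) ∨ (q ^ e + 1 ∣ q ^ d + 1)) :
    Nat.Coprime (tor q e true) (tor q d false) := by
  have hodd := tor_odd hq hq0 he true
  refine Nat.coprime_of_dvd fun p hp h1 h2 => ?_
  simp only [tor, if_true, Bool.false_eq_true, if_false] at h1 h2 hodd
  have hp2 : ¬ p ∣ 2 := fun hd2 => by
    obtain rfl := (Nat.prime_dvd_prime_iff_eq hp Nat.prime_two).1 hd2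
    exact Nat.not_even_iff_odd.2 hodd (even_iff_two_dvd.2 h1)
  have hpe : 1 ≤ q ^ e := Nat.one_le_pow _ _ (Nat.pos_of_ne_zero hq0)
  have hpd : 1 ≤ q ^ d := Nat.one_le_pow _ _ (Nat.pos_of_ne_zero hq0)
  rcases h with h3 | h3
  · have h4 := Nat.dvd_sub h1 (h2.trans h3)
    rw [show q ^ e + 1 - (q ^ e - 1) = 2 by omega] at h4
    exact hp2 h4
  · have h4 := Nat.dvd_sub (h1.trans h3) h2
    rw [show q ^ d + 1 - (q ^ d - 1) = 2 by omega] at h4
    exact hp2 h4

theorem coprime_tor_two (b : Bool) {q : ℕ} (hq : Even q) (hq0 : q ≠ 0) :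
    Nat.Coprime (tor q 2 true) (tor q 1 b) :=
  (coprime_tor hq hq0 (d := 2) (e := 2) (by omega) (Or.inl dvd_rfl)).coprime_dvd_right (tor_one_dvd_two b)

theorem coprime_tor_three (b : Bool) {q : ℕ} (hq : Even q) (hq0 : q ≠ 0) :
    Nat.Coprime (tor q 3 b) (tor q 1 (!b)) := by
  cases b
  · exact (coprime_tor hq hq0 (d := 3) (e := 1) le_rfl (Or.inr (tor_one_dvd_three (q := q) true))).symm
  · exact coprime_tor hq hq0 (d := 1) (e := 3) (by omega) (Or.inl (tor_one_dvd_three (q := q) false))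

theorem realised {n : ℕ} (hn : n ∈ targets (Fintype.card F)) : RealisedAs F n := by
  obtain ⟨e, -, hqe⟩ := FiniteField.card F 2
  have hq : Even (Fintype.card F) := by rw [hqe]; exact Nat.even_pow.2 ⟨even_two, e.ne_zero⟩
  have hq0 : Fintype.card F ≠ 0 := Fintype.card_ne_zero
  have htor := fun d (hd : 1 ≤ d) b => goElem_tor (F := F) (d := d) hd b
  have hodd := fun d (hd : 1 ≤ d) b => tor_odd hq hq0 hd b
  have hsgn : ∀ b, sgn b * sgn (!b) = -1 := fun b => by cases b <;> rfl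
  rcases hn with rfl | rfl | ⟨b, rfl | rfl | rfl | rfl | rfl⟩
  · exact Or.inl ⟨hodd 4 (by omega) true, htor 4 (by omega) true⟩
  · refine Or.inl ⟨(hodd 2 (by omega) true).mul (hodd 2 (by omega) false), ?_⟩
    have h := (htor 2 (by omega) true).add (htor 2 (by omega) false)
    rwa [(coprime_tor hq hq0 (d := 2) (e := 2) (by omega) (Or.inl dvd_rfl)).lcm_eq_mul] at h
  · refine Or.inl ⟨(hodd 3 (by omega) b).mul (hodd 1 le_rfl (!b)), ?_⟩
    have h := (htor 3 (by omega) b).add (htor 1 le_rfl (!b))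
    rwa [(coprime_tor_three b hq hq0).lcm_eq_mul, hsgn] at h
  · exact Or.inr ⟨3, 1, tor (Fintype.card F) 3 b, !b, sgn b, hodd 3 (by omega) b, le_rfl, by omega, rfl, hsgn b,
      htor 3 (by omega) b, by ring⟩
  · have h := (htor 2 (by omega) true).add (htor 1 le_rfl b)
    rw [(coprime_tor_two b hq hq0).lcm_eq_mul] at h
    exact Or.inr ⟨3, 1, _, b, _, (hodd 2 (by omega) true).mul (hodd 1 le_rfl b), le_rfl, by omega, rfl,
      by cases b <;> rfl, h, by ring⟩
  · exact Or.inr ⟨2, 2, tor (Fintype.card F) 2 b, !b, sgn b, hodd 2 (by omega) b, by omega, by omega, rfl, hsgn b,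
      htor 2 (by omega) b, by ring⟩
  · exact Or.inr ⟨1, 3, tor (Fintype.card F) 1 b, !b, sgn b, hodd 1 le_rfl b, by omega, le_rfl, rfl, hsgn b,
      htor 1 le_rfl b, by ring⟩

end Lists

section Orth

variable {ζ : F} (hζ : ∀ t : F, t ^ 2 + t + ζ ≠ 0)
include hζ

theorem orth_elem {n : ℕ} (hn : n ∈ targets (Fintype.card F)) :
    ∃ g : orthGroup (minusForm F 3 1 ζ), orderOf g = n := by
  refine exists_in_minus hζ ?_
  rcases realised hn with ⟨-, h⟩ | ⟨m, k, L, b, s, hL, hk1, hk3, hm, hs, h, rfl⟩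
  · exact h
  have hrest : GOElem F k (sgn b) (2 ^ k) := by
    obtain ⟨h1, h2, h3⟩ := goElem_two_pow (F := F) b
    rcases (show k = 1 ∨ k = 2 ∨ k = 3 by omega) with rfl | rfl | rfl
    · exact h1
    · exact h2
    · exact h3
  have h4 := h.add hrest
  rwa [hm, hs, (Nat.Coprime.pow_right k (Nat.coprime_two_right.2 hL)).lcm_eq_mul] at h4

theorem orth_range : Set.range (orderOf : orthGroup (minusForm F 3 1 ζ) → ℕ) = spectrum F := by
  obtain ⟨φ, hφ, -⟩ := exists_toSp (minusForm_nondeg (F := F) 3 1 ζ (anisotropic_of_no_root hζ)) (by simp)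
  refine range_eq (fun g => ?_) fun t ht => ?_
  · rw [← orderOf_injective φ hφ g]; exact sp_good (φ g)
  · obtain ⟨g, hg⟩ := orth_elem hζ ht
    exact ⟨g, hg ▸ dvd_rfl⟩

theorem sp_range : Set.range (orderOf : Matrix.symplecticGroup (Fin 4) F → ℕ) = spectrum F := by
  obtain ⟨φ, hφ, -⟩ := exists_toSp (minusForm_nondeg (F := F) 3 1 ζ (anisotropic_of_no_root hζ)) (by simp)
  refine range_eq sp_good fun t ht => ?_
  obtain ⟨g, hg⟩ := orth_elem hζ ht
  exact ⟨φ g, by rw [orderOf_injective φ hφ, hg]⟩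

/-- The index two subgroup acting on the natural module. -/
noncomputable def affRep :
    (parHom hζ).ker →* AddMonoid.End ((Fin 3 ⊕ Fin 3) ⊕ Fin 2 → F) where
  toFun g := (g.1.1 : ((Fin 3 ⊕ Fin 3) ⊕ Fin 2 → F) →ₗ[F] ((Fin 3 ⊕ Fin 3) ⊕ Fin 2 → F)).toAddMonoidHom
  map_one' := AddMonoidHom.ext fun _ => rfl
  map_mul' _ _ := AddMonoidHom.ext fun _ => rfl

theorem affRep_sum (g : (parHom hζ).ker) (n : ℕ) (v : (Fin 3 ⊕ Fin 3) ⊕ Fin 2 → F) :
    (∑ i ∈ Finset.range n, affRep hζ g ^ i) v = ∑ i ∈ Finset.range n, (g.1 ^ i).1 v := by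
  refine (AddMonoidHom.finsetSum_apply _ _ v).trans (Finset.sum_congr rfl fun i _ => ?_)
  rw [← map_pow]
  rfl

theorem aff_range : Set.range (orderOf : AffineGroup.Aff (affRep hζ) → ℕ) = spectrum F := by
  classical
  haveI : Finite (AffineGroup.Aff (affRep hζ)) := Finite.of_equiv _ SemidirectProduct.equivProd.symm
  have hnd := minusForm_nondeg (F := F) 3 1 ζ (anisotropic_of_no_root hζ)
  obtain ⟨φ, hφ, hcp⟩ := exists_toSp hnd (by simp)
  have h2V : ∀ w : (Fin 3 ⊕ Fin 3) ⊕ Fin 2 → F, 2 • w = 0 := fun w => by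
    rw [two_nsmul]; funext i; exact CharTwo.add_self_eq_zero (w i)
  refine range_eq (fun x => ?_) fun t ht => ?_
  · obtain ⟨v, g, rfl⟩ := AffineGroup.exists_elt _ x
    obtain ⟨L, k, hL, hr, hgood, hA⟩ := sp_bound (φ g.1)
    set o := orderOf g with ho
    have hoL : o ∣ L * 2 ^ k := by
      rw [ho, ← Subgroup.orderOf_coe, ← orderOf_injective φ hφ]
      exact orderOf_dvd_of_pow_eq_one hA
    have ho' : g ^ o = 1 := pow_orderOf_eq_one g
    by_cases hS : (∑ i ∈ Finset.range o, affRep hζ g ^ i) v = 0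
    · exact hgood.of_dvd ((orderOf_dvd_of_pow_eq_one (AffineGroup.pow_eq_one _ v g ho' hS)).trans hoL)
    have h2o : orderOf (AffineGroup.elt (affRep hζ) v g) ∣ o * 2 :=
      orderOf_dvd_of_pow_eq_one (AffineGroup.pow_mul_eq_one _ h2V v g ho')
    refine hgood.of_dvd (h2o.trans ?_)
    obtain ⟨j, Lo, hLo, hoj⟩ := Nat.exists_eq_pow_mul_and_not_dvd (orderOf_pos g).ne' 2 (by norm_num)
    rw [← ho] at hoj
    have hLoL : Lo ∣ L := by
      refine Nat.Coprime.dvd_of_dvd_mul_right ?_ ((hoj ▸ dvd_mul_left Lo (2 ^ j) : Lo ∣ o).trans hoL)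
      exact Nat.Coprime.pow_right k (Nat.coprime_two_right.2 (Nat.odd_iff.2 (by omega)))
    -- the unipotent block
    let T : Module.End F ((Fin 3 ⊕ Fin 3) ⊕ Fin 2 → F) :=
      (g.1.1 : ((Fin 3 ⊕ Fin 3) ⊕ Fin 2 → F) →ₗ[F] ((Fin 3 ⊕ Fin 3) ⊕ Fin 2 → F))
    have hTpow : ∀ (i : ℕ) w, (T ^ i) w = (g.1 ^ i).1 w := by
      intro i
      induction i with
      | zero => intro w; rfl
      | succ i ih => intro w; rw [pow_succ', Module.End.mul_apply, ih, pow_succ']; rfl
    have hfix : Even (finrank F (LinearMap.ker (T - 1))) := by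
      rw [← ZMod.natCast_eq_zero_iff_even]
      exact congrArg Multiplicative.toAdd (MonoidHom.mem_ker.1 g.2)
    have hT : T ^ (2 ^ j * Lo) = 1 := LinearMap.ext fun w => by
      rw [hTpow, ← hoj, ← SubmonoidClass.coe_pow, ho']; rfl
    have hv : (∑ i ∈ Finset.range (2 ^ j * Lo), T ^ i) v ≠ 0 := by
      rw [LinearMap.sum_apply, ← hoj, Finset.sum_congr rfl fun i _ => hTpow i v, ← affRep_sum hζ g]
      exact hS
    have hblock := rootMultiplicity_gt T hT hfix hv
    rw [← hcp g.1] at hblock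
    have hjk : j < k := (Nat.pow_lt_pow_iff_right (by norm_num : 1 < 2)).1 (by omega)
    rw [hoj, mul_comm L, mul_right_comm, ← pow_succ]
    exact mul_dvd_mul (pow_dvd_pow 2 hjk) hLoL
  · rcases realised ht with ⟨hodd, h⟩ | ⟨m, k, L, b, s, hL, hk1, hk3, hm, hs, h, rfl⟩
    · obtain ⟨g, hg⟩ := exists_in_minus hζ h
      exact ⟨AffineGroup.elt _ 0 ⟨g, MonoidHom.mem_ker.2 (congrArg Multiplicative.ofAdd (par_eq_zero_of_odd hζ (hg ▸ hodd)))⟩, by
        refine dvd_trans ?_ (AffineGroup.dvd_orderOf _ _ _)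
        rw [← Subgroup.orderOf_coe, hg]⟩
    have hrest : AffElem F k (sgn b) (k - 1) := by
      obtain ⟨h1, h2, h3⟩ := affElem_two_pow (F := F) b
      rcases (show k = 1 ∨ k = 2 ∨ k = 3 by omega) with rfl | rfl | rfl
      · exact h1
      · exact h2
      · exact h3
    obtain ⟨g, v, hg, hpar, hv⟩ := exists_aff_elem hζ hL h hrest hm hs
    let g' : (parHom hζ).ker := ⟨g, MonoidHom.mem_ker.2 (congrArg Multiplicative.ofAdd hpar)⟩
    have ho : orderOf g' = L * 2 ^ (k - 1) := by rw [← Subgroup.orderOf_coe]; exact hg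
    refine ⟨AffineGroup.elt _ v g', ?_⟩
    set x := AffineGroup.elt (affRep hζ) v g'
    obtain ⟨c, hc⟩ := AffineGroup.dvd_orderOf (affRep hζ) v g'
    have hx2 : orderOf x ∣ orderOf g' * 2 :=
      orderOf_dvd_of_pow_eq_one (AffineGroup.pow_mul_eq_one _ h2V v g' (pow_orderOf_eq_one g'))
    have hne : c ≠ 1 := by
      rintro rfl
      rw [mul_one] at hc
      have h0 := pow_orderOf_eq_one x
      rw [show orderOf x = orderOf g' from hc, AffineGroup.pow_eq] at h0
      apply hv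
      rw [← hg, ← affRep_sum hζ g', show orderOf g = orderOf g' from Subgroup.orderOf_coe g']
      exact congrArg (fun y : AffineGroup.Aff (affRep hζ) => y.left.toAdd) h0
    rw [show orderOf x = orderOf g' * c from hc] at hx2 ⊢
    have hc2 : c ∣ 2 := (Nat.mul_dvd_mul_iff_left (orderOf_pos g')).1 hx2
    rcases (Nat.dvd_prime Nat.prime_two).1 hc2 with rfl | rfl
    · exact absurd rfl hne
    · rw [ho, mul_assoc, ← pow_succ, Nat.sub_add_cancel hk1]

end Orth

end CfsgLib.Recognition.SpEight
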